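import Groth.Agent.S1324
import Groth.Prelude.Def_SGA3x
import Groth.Prelude.Def_AlgGrp

/-!
# The union of the neutral components of the fibres of a group scheme

Base change, and stability under morphisms `T ⊗ G ⟶ H` of the union `G⁰` of the neutral components of
the fibres of a group scheme `G` over any base scheme.
-/

set_option autoImplicit false
universe u
open CategoryTheory CategoryTheory.Limits MonoidalCategory CartesianMonoidalCategory MonObj GrpObj AlgebraicGeometry

namespace K204.Neutral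

variable {S : Scheme.{u}}

/-- The unit section, as a morphism of schemes. -/
noncomputable abbrev e (G : Over S) [GrpObj G] : S ⟶ G.left := (η[G] : 𝟙_ (Over S) ⟶ G).left

lemma e_hom (G : Over S) [GrpObj G] : e G ≫ G.hom = 𝟙 S := Over.w (η[G] : 𝟙_ (Over S) ⟶ G)

lemma hom_e (G : Over S) [GrpObj G] (s : S) : G.hom (e G s) = s := by
  rw [← Scheme.Hom.comp_apply, e_hom]; rfl

/-- `G⁰` is the set of section components of the unit section. -/
theorem neutralSet_eq (G : Over S) [GrpObj G] :
    SGA3x.neutralSet G = MoreMor.sectionComponents G.hom (e G) := by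
  ext x
  constructor
  · intro hx
    obtain ⟨p, hp⟩ := Set.mem_iUnion.mp hx
    have h0 : x ∈ G.hom ⁻¹' {(𝟙_ (Over S)).hom p} := connectedComponentIn_subset _ _ hp
    have h1 : G.hom x = (𝟙_ (Over S)).hom p := h0
    change x ∈ connectedComponentIn (G.hom ⁻¹' {G.hom x}) (e G (G.hom x))
    rw [h1]
    exact hp
  · intro hx
    exact Set.mem_iUnion.mpr ⟨G.hom x, hx⟩

lemma mem_neutralSet_iff (G : Over S) [GrpObj G] (x : G.left) :
    x ∈ SGA3x.neutralSet G ↔ x ∈ connectedComponentIn (G.hom ⁻¹' {G.hom x}) (e G (G.hom x)) := by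
  rw [neutralSet_eq]; rfl

lemma e_mem (G : Over S) [GrpObj G] (s : S) : e G s ∈ SGA3x.neutralSet G := by
  rw [mem_neutralSet_iff, hom_e]
  exact mem_connectedComponentIn (hom_e G s)

/-- The unit section of `T ⊗ G` over `T`. -/
noncomputable abbrev σ (G : Over S) [GrpObj G] (T : Over S) : T ⟶ T ⊗ G := lift (𝟙 T) 1

/-- The neutral set of the base change. -/
theorem preimage_neutralSet (G : Over S) [GrpObj G] (T : Over S) :
    (snd T G).left ⁻¹' (SGA3x.neutralSet G) =
      MoreMor.sectionComponents (fst T G).left (σ G T).left := by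
  rw [neutralSet_eq]
  refine (Groth.Agent.S1324.result G.hom (e G) (e_hom G) (fst T G).left (snd T G).left T.hom
    (IsPullback.of_hasPullback T.hom G.hom).flip (σ G T).left ?_ ?_).symm
  · rw [← Over.comp_left, lift_fst]; rfl
  · rw [← Over.comp_left, lift_snd, Hom.one_def, Over.comp_left]
    rfl

/-- Points of the fibre of `T ⊗ G` over `t` which lie over `G⁰`. -/
lemma mem_component_of_mem (G : Over S) [GrpObj G] {T : Over S} (z : (T ⊗ G).left)
    (hz : (snd T G).left z ∈ SGA3x.neutralSet G) :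
    z ∈ connectedComponentIn ((fst T G).left ⁻¹' {(fst T G).left z})
      ((σ G T).left ((fst T G).left z)) := by
  have h : z ∈ (snd T G).left ⁻¹' (SGA3x.neutralSet G) := hz
  rw [preimage_neutralSet] at h
  exact h

/-- The comparison lemma: a morphism `ψ : T ⊗ G ⟶ H` which sends one `T`-point with values in `G⁰` to
`H⁰` at the point `t` sends all such `T`-points to `H⁰` at `t`. -/
theorem comp_mem {G H : Over S} [GrpObj G] [GrpObj H] {T : Over S} (ψ : T ⊗ G ⟶ H) (x₀ x : T ⟶ G)
    (t : T.left) (h₀ : x₀.left t ∈ SGA3x.neutralSet G) (h : x.left t ∈ SGA3x.neutralSet G)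
    (h' : (lift (𝟙 T) x₀ ≫ ψ).left t ∈ SGA3x.neutralSet H) :
    (lift (𝟙 T) x ≫ ψ).left t ∈ SGA3x.neutralSet H := by
  -- the neutral component of the fibre over `t`
  have hfst : ∀ y : T ⟶ G, (fst T G).left ((lift (𝟙 T) y).left t) = t := fun y => by
    rw [← Scheme.Hom.comp_apply, ← Over.comp_left, lift_fst]; rfl
  have hsnd : ∀ y : T ⟶ G, (snd T G).left ((lift (𝟙 T) y).left t) = y.left t := fun y => by
    rw [← Scheme.Hom.comp_apply, ← Over.comp_left, lift_snd]
  let C : Set (T ⊗ G).left := connectedComponentIn ((fst T G).left ⁻¹' {t}) ((σ G T).left t)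
  have hC : ∀ y : T ⟶ G, y.left t ∈ SGA3x.neutralSet G → (lift (𝟙 T) y).left t ∈ C := by
    intro y hy
    have h1 := mem_component_of_mem G ((lift (𝟙 T) y).left t) (by rw [hsnd]; exact hy)
    rw [hfst] at h1
    exact h1
  have hCpre : _root_.IsPreconnected (ψ.left '' C) :=
    isPreconnected_connectedComponentIn.image _ ψ.left.continuous.continuousOn
  have hCfib : ψ.left '' C ⊆ H.hom ⁻¹' {T.hom t} := by
    rintro _ ⟨c, hc, rfl⟩
    have h0 : c ∈ (fst T G).left ⁻¹' {t} := connectedComponentIn_subset _ _ hc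
    have h1 : (fst T G).left c = t := h0
    change H.hom (ψ.left c) = T.hom t
    rw [← Scheme.Hom.comp_apply, Over.w ψ, ← Over.w (fst T G), Scheme.Hom.comp_apply, h1]
  have hx₀ : (lift (𝟙 T) x₀ ≫ ψ).left t ∈ ψ.left '' C := ⟨_, hC x₀ h₀, by
    rw [← Scheme.Hom.comp_apply, ← Over.comp_left]⟩
  have hx : (lift (𝟙 T) x ≫ ψ).left t ∈ ψ.left '' C := ⟨_, hC x h, by
    rw [← Scheme.Hom.comp_apply, ← Over.comp_left]⟩
  have e1 : H.hom ((lift (𝟙 T) x₀ ≫ ψ).left t) = T.hom t := hCfib hx₀
  have e2 : H.hom ((lift (𝟙 T) x ≫ ψ).left t) = T.hom t := hCfib hx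
  rw [mem_neutralSet_iff, e1] at h'
  rw [mem_neutralSet_iff, e2]
  rw [connectedComponentIn_eq h']
  exact hCpre.subset_connectedComponentIn hx₀ hCfib hx

/-- `G⁰` is stable under `(g, h) ↦ g h⁻¹`. -/
theorem mul_inv_mem {G : Over S} [GrpObj G] {T : Over S} (g h : T ⟶ G) (t : T.left)
    (hg : g.left t ∈ SGA3x.neutralSet G) (hh : h.left t ∈ SGA3x.neutralSet G) :
    (g * h⁻¹).left t ∈ SGA3x.neutralSet G := by
  have key : ∀ y : T ⟶ G, lift (𝟙 T) y ≫ (snd T G * (fst T G ≫ h)⁻¹) = y * h⁻¹ := by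
    intro y
    rw [MonObj.comp_mul, GrpObj.comp_inv, lift_snd, lift_fst_assoc, Category.id_comp]
  have h1 := comp_mem (snd T G * (fst T G ≫ h)⁻¹) h g t hh hg (by
    rw [key, mul_inv_cancel, Hom.one_def, Over.comp_left, Scheme.Hom.comp_apply]
    exact e_mem G _)
  rwa [key] at h1

theorem one_mem {G : Over S} [GrpObj G] {T : Over S} (t : T.left) :
    (1 : T ⟶ G).left t ∈ SGA3x.neutralSet G := by
  rw [Hom.one_def, Over.comp_left, Scheme.Hom.comp_apply]
  exact e_mem G _

theorem inv_mem {G : Over S} [GrpObj G] {T : Over S} (h : T ⟶ G) (t : T.left)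
    (hh : h.left t ∈ SGA3x.neutralSet G) : (h⁻¹).left t ∈ SGA3x.neutralSet G := by
  have := mul_inv_mem 1 h t (one_mem t) hh
  rwa [_root_.one_mul] at this

theorem mul_mem {G : Over S} [GrpObj G] {T : Over S} (g h : T ⟶ G) (t : T.left)
    (hg : g.left t ∈ SGA3x.neutralSet G) (hh : h.left t ∈ SGA3x.neutralSet G) :
    (g * h).left t ∈ SGA3x.neutralSet G := by
  have := mul_inv_mem g h⁻¹ t hg (inv_mem h t hh)
  rwa [_root_.inv_inv] at this

/-- `G⁰` is stable under conjugation. -/
theorem conj_mem {G : Over S} [GrpObj G] {T : Over S} (g n : T ⟶ G) (t : T.left)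
    (hn : n.left t ∈ SGA3x.neutralSet G) : (g * n * g⁻¹).left t ∈ SGA3x.neutralSet G := by
  have key : ∀ y : T ⟶ G, lift (𝟙 T) y ≫ ((fst T G ≫ g) * snd T G * (fst T G ≫ g)⁻¹) =
      g * y * g⁻¹ := by
    intro y
    rw [MonObj.comp_mul, MonObj.comp_mul, GrpObj.comp_inv, lift_snd, lift_fst_assoc,
      Category.id_comp]
  have h1 := comp_mem ((fst T G ≫ g) * snd T G * (fst T G ≫ g)⁻¹) 1 n t (one_mem t) hn (by
    rw [key, _root_.mul_one, mul_inv_cancel]
    exact one_mem t)
  rwa [key] at h1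

/-- Over a base with one point `G⁰` is the connected component of the unit. -/
theorem neutralSet_of_subsingleton [Subsingleton S] (G : Over S) [GrpObj G] (s : S) :
    SGA3x.neutralSet G = connectedComponent (e G s) := by
  ext x
  rw [mem_neutralSet_iff]
  have h1 : G.hom ⁻¹' {G.hom x} = Set.univ := by
    rw [Set.eq_univ_iff_forall]
    intro w
    exact Subsingleton.elim _ _
  rw [h1, connectedComponentIn_univ, Subsingleton.elim (G.hom x) s]

end K204.Neutral
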