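import Groth.Agent.Flat2D.ThickRed
import Groth.Agent.Sga3C.ActBase
import Mathlib.RingTheory.Artinian.Ring

/-!
# The closed point of the spectrum of a local artinian ring is a finite order thickening

and so are its base changes.
-/

set_option autoImplicit false
universe u
open CategoryTheory CategoryTheory.Limits AlgebraicGeometry

namespace K204.ArtThick

/-- A surjection of rings with nilpotent kernel gives a finite order thickening. -/
theorem isFiniteOrderThickening_spec {A A₀ : Type u} [CommRing A] [CommRing A₀] (φ : A →+* A₀)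
    (hφ : Function.Surjective φ) (hn : IsNilpotent (RingHom.ker φ)) :
    MoreMor.IsFiniteOrderThickening (Spec.map (CommRingCat.ofHom φ)) := by
  have h1 : IsClosedImmersion (Spec.map (CommRingCat.ofHom φ)) :=
    IsClosedImmersion.spec_of_surjective _ hφ
  obtain ⟨n, hn⟩ := hn
  refine ⟨⟨h1, ?_⟩, n, ?_⟩
  · refine ⟨fun (x : PrimeSpectrum A) => ?_⟩
    have h3 : x ∈ Set.range (PrimeSpectrum.comap φ) := by
      rw [range_comap_of_surjective _ _ hφ]
      intro a ha
      have h4 : a ^ n = 0 := by
        have : a ^ n ∈ (RingHom.ker φ) ^ n := Ideal.pow_mem_pow ha n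
        rwa [hn] at this
      exact x.2.mem_of_pow_mem n (by rw [h4]; exact x.asIdeal.zero_mem)
    exact h3
  · let e : A ≃+* Γ(Spec (CommRingCat.of A), ⊤) :=
      (Scheme.ΓSpecIso (CommRingCat.of A)).symm.commRingCatIsoToRingEquiv
    have h := Scheme.ΓSpecIso_inv_naturality (CommRingCat.ofHom φ)
    have h' : ∀ a, ((Spec.map (CommRingCat.ofHom φ)).app ⊤).hom (e a) =
        (Scheme.ΓSpecIso (CommRingCat.of A₀)).inv.hom (φ a) := fun a => congr($(h).hom a).symm
    have hinj : Function.Injective (Scheme.ΓSpecIso (CommRingCat.of A₀)).inv.hom :=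
      (Scheme.ΓSpecIso (CommRingCat.of A₀)).symm.commRingCatIsoToRingEquiv.injective
    have hle : RingHom.ker ((Spec.map (CommRingCat.ofHom φ)).app ⊤).hom ≤
        (RingHom.ker φ).map e.toRingHom := by
      intro x hx
      obtain ⟨a, rfl⟩ := e.surjective x
      refine Ideal.mem_map_of_mem e.toRingHom ?_
      rw [RingHom.mem_ker] at hx ⊢
      rw [h'] at hx
      exact hinj (hx.trans (map_zero _).symm)
    apply Scheme.IdealSheafData.ext_of_isAffine
    rw [Scheme.IdealSheafData.ideal_pow, Pi.pow_apply, Scheme.Hom.ker_apply]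
    refine le_antisymm ?_ bot_le
    refine (Ideal.pow_right_mono hle n).trans ?_
    rw [← Ideal.map_pow, hn]
    exact (Ideal.map_bot (f := e.toRingHom)).le

/-- Finite order thickenings of affine schemes are stable under base change. -/
theorem isFiniteOrderThickening_of_isPullback {Y Y' S S' : Scheme.{u}} {iY : Y ⟶ Y'} {iS : S ⟶ S'}
    {g : Y ⟶ S} {g' : Y' ⟶ S'} [IsAffine S'] (hc : IsPullback iY g g' iS)
    (hS : MoreMor.IsFiniteOrderThickening iS) : MoreMor.IsFiniteOrderThickening iY := by
  obtain ⟨⟨h1, h2⟩, hn⟩ := hS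
  have h3 : IsClosedImmersion iY := MorphismProperty.of_isPullback (P := @IsClosedImmersion) hc.flip h1
  have h4 : Surjective iY := MorphismProperty.of_isPullback (P := @Surjective) hc.flip h2
  obtain ⟨n, hn'⟩ := Groth.Agent.Flat2D.ThickRed.isNilpotent_ker_app ⟨⟨h1, h2⟩, hn⟩
    (isAffineOpen_top S')
  refine ⟨⟨h3, h4⟩, n, ?_⟩
  ext V : 2
  have h5 := (Groth.Agent.Flat2D.ThickRed.app_of_isPullback hc (isAffineOpen_top S') V.2 le_top).2.2
  rw [Scheme.IdealSheafData.ideal_pow, Pi.pow_apply, Scheme.Hom.ker_apply, h5, ← Ideal.map_pow, hn']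
  simp

section Artin

variable (A : Type u) [CommRing A] [IsArtinianRing A] [IsLocalRing A]

/-- The closed point. -/
noncomputable abbrev clPt : Spec (CommRingCat.of (IsLocalRing.ResidueField A)) ⟶ Spec (CommRingCat.of A) :=
  Spec.map (CommRingCat.ofHom (IsLocalRing.residue A))

theorem thick_clPt : MoreMor.IsFiniteOrderThickening (clPt A) := by
  refine isFiniteOrderThickening_spec _ IsLocalRing.residue_surjective ?_
  rw [IsLocalRing.ker_residue]
  have h := IsArtinianRing.isNilpotent_jacobson_bot (R := A)
  rwa [IsLocalRing.jacobson_eq_maximalIdeal ⊥ bot_ne_top] at h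

omit [IsArtinianRing A] in
/-- The base change of a morphism over `Spec A` to the closed point. -/
theorem isPullback_map {X Y : Over (Spec (CommRingCat.of A))} (u : X ⟶ Y) :
    IsPullback (pullback.fst X.hom (clPt A)) ((Over.pullback (clPt A)).map u).left u.left
      (pullback.fst Y.hom (clPt A)) :=
  (Groth.Agent.Sga3C.ActBase.isPullback_map_left (clPt A) u).flip

theorem thick_fst (Y : Over (Spec (CommRingCat.of A))) :
    MoreMor.IsFiniteOrderThickening (pullback.fst Y.hom (clPt A)) :=
  isFiniteOrderThickening_of_isPullback (IsPullback.of_hasPullback Y.hom (clPt A)) (thick_clPt A)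

end Artin

end K204.ArtThick
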