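import Groth.Agent.SGA3.K204.NeutralNhd
import Groth.Agent.S1333

/-!
# Semicontinuity and constructibility of the fibre dimension of a group scheme
-/

set_option autoImplicit false

universe u

open CategoryTheory CategoryTheory.Limits MonoidalCategory CartesianMonoidalCategory MonObj GrpObj AlgebraicGeometry

namespace K204.DimNhd

open Groth.Agent.Sga3.H820.NeutralOpen Groth.Agent.S3022

variable {S : Scheme.{u}} (G : Over S) [GrpObj G]

/-- Upper semicontinuity of the fibre dimension of a group scheme. -/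
theorem isOpen_dim_le [LocallyOfFiniteType G.hom] (d : ℕ) :
    IsOpen {t : S | topologicalKrullDim (G.hom ⁻¹' {t}) ≤ d} := by
  have h1 := (Groth.Agent.S0402.result G.hom d).preimage (e G).continuous
  convert h1 using 1
  ext t
  change _ ↔ FlatMor.fibreDimAt G.hom (e G t) ≤ d
  rw [fibreDimAt_eq, hom_e, dim_fiber]
  rfl

/-- The set of points where the fibre dimension is at least `d` is a neighbourhood of `s₀` as soon as it
contains all generizations of `s₀`. -/
theorem le_dim_mem_nhds [LocallyOfFinitePresentation G.hom] (d : ℕ) (s₀ : S)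
    (h : ∀ y : S, y ⤳ s₀ → (d : WithBot ℕ∞) ≤ topologicalKrullDim (G.hom ⁻¹' {y})) :
    {t : S | (d : WithBot ℕ∞) ≤ topologicalKrullDim (G.hom ⁻¹' {t})} ∈ nhds s₀ := by
  have heG : (η[G] : 𝟙_ (Over S) ⟶ G).left ≫ G.hom = 𝟙 S := Over.w (η[G] : 𝟙_ (Over S) ⟶ G)
  obtain ⟨V, Z, f₁, σ, i, hsV, hV, hσ, hi, hσi, hi1, hf1, hf2, hf3⟩ :=
    K204.NeutralNhd.exists_chart G.hom (η[G] : 𝟙_ (Over S) ⟶ G).left heG s₀
  have hhi : ∀ z : Z, G.hom (i z) = (f₁ z).1 := fun z => by
    rw [← Scheme.Hom.comp_apply, hi, Scheme.Hom.comp_apply]; rfl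
  have hσe : ∀ v : V, i (σ v) = e G v.1 := fun v => by
    rw [← Scheme.Hom.comp_apply, hσi, Scheme.Hom.comp_apply]; rfl
  -- the fibre dimensions of the chart
  have hdim : ∀ v : V, topologicalKrullDim (f₁.fiber v) =
      topologicalKrullDim (G.hom ⁻¹' {v.1}) := by
    intro v
    have h1 := dim_open G v.1 i.opensRange (e G v.1) (hom_e G v.1) ⟨σ v, hσe v⟩
    rw [dim_fiber, dim_fiber] at h1
    rw [dim_fiber, ← h1]
    let k : Z ≃ₜ i.opensRange := i.isoOpensRange.hom.homeomorph
    have hk : ∀ z : Z, (k z).1 = i z := fun z => by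
      have h2 : i.isoOpensRange.hom ≫ i.opensRange.ι = i := i.isoOpensRange_hom_ι
      exact congrArg (fun m : Z ⟶ G.left => m z) h2
    let K : (f₁ ⁻¹' {v}) ≃ₜ ((i.opensRange.ι ≫ G.hom) ⁻¹' {v.1}) :=
      k.subtype (fun z => by
        change f₁ z = v ↔ (i.opensRange.ι ≫ G.hom) (k z) = v.1
        rw [Scheme.Hom.comp_apply]
        change _ ↔ G.hom (k z).1 = v.1
        rw [hk, hhi]
        exact Subtype.ext_iff)
    exact IsHomeomorph.topologicalKrullDim_eq K K.isHomeomorph
  have hE := Groth.Agent.S1333.isLocallyConstructible_le f₁ d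
  have hint : (⟨s₀, hsV⟩ : V) ∈ interior {y : V | (d : WithBot ℕ∞) ≤ topologicalKrullDim (f₁.fiber y)} := by
    refine Groth.Agent.Flat2D.ConstrGen.mem_interior_of_forall_specializes hE fun y hy => ?_
    change (d : WithBot ℕ∞) ≤ topologicalKrullDim (f₁.fiber y)
    rw [hdim]
    exact h _ (hy.map V.ι.continuous)
  have h6 : V.ι '' (interior {y : V | (d : WithBot ℕ∞) ≤ topologicalKrullDim (f₁.fiber y)}) ∈ nhds s₀ :=
    (V.ι.isOpenEmbedding.isOpenMap _ isOpen_interior).mem_nhds ⟨_, hint, rfl⟩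
  refine Filter.mem_of_superset h6 ?_
  rintro _ ⟨v, hv, rfl⟩
  have h8 := interior_subset hv
  have h7 : (d : WithBot ℕ∞) ≤ topologicalKrullDim (f₁.fiber v) := h8
  rw [hdim] at h7
  exact h7

end K204.DimNhd
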