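import Groth.Agent.SGA3.K204.NeutralNhd
import Groth.Agent.Ega4fib.H172.FibDimBC
import Groth.Agent.SGA3.K203.Basic

/-!
# Fibre dimension and openness along the neutral components after base change
-/

set_option autoImplicit false

universe u

open CategoryTheory CategoryTheory.Limits MonoidalCategory CartesianMonoidalCategory MonObj GrpObj AlgebraicGeometry

namespace K204.NeutralBC

open Groth.Agent.Sga3.H820.NeutralOpen

variable {S T : Scheme.{u}} (f : T ⟶ S) (G : Over S) [GrpObj G]

/-- The dimension of the fibres of a group scheme is invariant under base change. -/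
theorem dim_bc [LocallyOfFiniteType G.hom] (t : T) :
    topologicalKrullDim ((Red.bc f G).hom ⁻¹' {t}) = topologicalKrullDim (G.hom ⁻¹' {f t}) := by
  have : LocallyOfFiniteType (Red.bc f G).hom :=
    inferInstanceAs (LocallyOfFiniteType (pullback.snd G.hom f))
  have hpb : IsPullback (pullback.fst G.hom f) (Red.bc f G).hom G.hom f :=
    IsPullback.of_hasPullback G.hom f
  let x : (Red.bc f G).left := e (Red.bc f G) t
  have h1 := Groth.Agent.S3022.fibreDimAt_eq (Red.bc f G) x
  have h2 := Groth.Agent.S3022.fibreDimAt_eq G (pullback.fst G.hom f x)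
  have h3 := Groth.Agent.Ega4fib.H172.FibDimBC.fibreDimAt_of_isPullback hpb x
  have h4 : (Red.bc f G).hom x = t := hom_e (Red.bc f G) t
  have h5 : G.hom (pullback.fst G.hom f x) = f t := by
    rw [← Scheme.Hom.comp_apply, hpb.w, Scheme.Hom.comp_apply, h4]
  rw [h4, Groth.Agent.S3022.dim_fiber] at h1
  rw [h5, Groth.Agent.S3022.dim_fiber] at h2
  rw [← h1, ← h2, h3]

/-- `image_inter_mem_nhds` after base change. -/
theorem image_inter_mem_nhds [LocallyOfFinitePresentation G.hom]
    (hdim : IsLocallyConstant (fun s : S => topologicalKrullDim ↥(G.hom.base ⁻¹' {s})))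
    (z : ↥(pullback G.hom f)) (hz : pullback.fst G.hom f z ∈ SGA3x.neutralSet G)
    {O : Set ↥(pullback G.hom f)} (hO : O ∈ nhds z) :
    pullback.snd G.hom f '' (O ∩ pullback.fst G.hom f ⁻¹' SGA3x.neutralSet G) ∈
      nhds (pullback.snd G.hom f z) := by
  have : LocallyOfFinitePresentation (Red.bc f G).hom :=
    inferInstanceAs (LocallyOfFinitePresentation (pullback.snd G.hom f))
  have hbc : SGA3x.neutralSet (Red.bc f G) = (pullback.fst G.hom f) ⁻¹' SGA3x.neutralSet G :=
    K203.Basic.neutralSet_bc f G
  rw [← hbc]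
  refine K204.NeutralNhd.image_inter_mem_nhds (Red.bc f G) ?_ ?_ hO
  · intro y hy
    rw [dim_bc, dim_bc]
    have h2 := hdim {topologicalKrullDim ↥(G.hom.base ⁻¹' {f (pullback.snd G.hom f z)})}
    exact (hy.map f.continuous).mem_open h2 rfl
  · refine (mem_neutralSet_iff (Red.bc f G) z).mp ?_
    rw [hbc]
    exact hz

end K204.NeutralBC
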