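import Groth.Agent.S0444
import Groth.Agent.CycB.RelDim4
import Groth.Agent.VarietyA.LocDim
import Groth.Agent.Sga3C.GenPts
import Groth.Prelude.Def_EGA43
import Mathlib.RingTheory.Valuation.LocalSubring

/-!
# Fibre dimension at points where the morphism is universally open

* over a valuation ring the transcendence degree of the residue extension does not drop under
  generization from the closed to the generic fibre;
* if `f : X ⟶ Y` is locally of finite type and universally open at `ξ`, `ξ` generic in its fibre, then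
  for every generization `y'` of `f ξ` there is a point `ζ` of the fibre at `y'` whose transcendence
  degree is at least the one of `ξ`.
-/

set_option autoImplicit false

universe u

open CategoryTheory CategoryTheory.Limits AlgebraicGeometry

namespace K204.ValRtd

open Groth.Agent.CycB.RelDim Groth.Agent.CycB.TrdegAlg Cardinal

theorem trd_le {R A T : Type u} [CommRing R] [IsDomain R] [ValuationRing R] [CommRing A] [IsDomain A]
    [CommRing T] [IsDomain T] (φ : R →+* A) (hφ : Function.Injective φ) (π : A →+* T)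
    (hπ : Function.Surjective π) (ψ : IsLocalRing.ResidueField R →+* T)
    (h : π.comp φ = ψ.comp (IsLocalRing.residue R)) (hfin : trd ψ < ℵ₀) : trd ψ ≤ trd φ := by
  let _ : Algebra R A := φ.toAlgebra
  let _ : Algebra (IsLocalRing.ResidueField R) T := ψ.toAlgebra
  have : FaithfulSMul (IsLocalRing.ResidueField R) T :=
    (faithfulSMul_iff_algebraMap_injective _ _).mpr ψ.injective
  obtain ⟨s, hs⟩ := exists_isTranscendenceBasis (IsLocalRing.ResidueField R) T
  have hcard : #s = Algebra.trdeg (IsLocalRing.ResidueField R) T := hs.cardinalMk_eq_trdeg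
  have : Finite s := by
    rw [← Cardinal.lt_aleph0_iff_finite, hcard]
    exact hfin
  obtain ⟨n, ⟨e⟩⟩ := Finite.exists_equiv_fin s
  let x : Fin n → T := fun i => (e.symm i : T)
  have hx : AlgebraicIndependent (IsLocalRing.ResidueField R) x := hs.1.comp e.symm e.symm.injective
  let g : MvPolynomial (Fin n) (IsLocalRing.ResidueField R) →ₐ[IsLocalRing.ResidueField R] T :=
    MvPolynomial.aeval x
  have hg : Function.Injective g := hx
  choose y hy using fun i => hπ (x i)
  have hind : AlgebraicIndependent R y :=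
    Groth.Agent.S0444.aeval_injective hφ n g hg π h y (fun i => by
      rw [hy]
      exact (MvPolynomial.aeval_X x i).symm)
  have h1 := hind.lift_cardinalMk_le_trdeg
  have h2 : trd ψ = n := by
    change Algebra.trdeg (IsLocalRing.ResidueField R) T = n
    rw [← hcard]
    exact Cardinal.mk_eq_nat_iff.mpr ⟨e⟩
  rw [h2]
  change (n : Cardinal.{u}) ≤ Algebra.trdeg R A
  simpa using h1

/-- A specialization is realized by a valuation ring. -/
theorem exists_valuation {S : Scheme.{u}} {s' s : S} (h : s' ⤳ s) :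
    ∃ (R : Type u) (_ : CommRing R) (_ : IsDomain R) (_ : ValuationRing R)
      (v : Spec (CommRingCat.of R) ⟶ S), v (IsLocalRing.closedPoint R) = s ∧
      v (⊥ : PrimeSpectrum R) = s' := by
  let Ω := S.residueField s'
  let φ : S.presheaf.stalk s ⟶ CommRingCat.of Ω :=
    S.presheaf.stalkSpecializes h ≫ S.residue s'
  obtain ⟨V, hV, hloc⟩ := IsLocalRing.exists_factor_valuationRing φ.hom
  let g : S.presheaf.stalk s →+* V := φ.hom.codRestrict V.toSubring hV
  let v : Spec (CommRingCat.of V) ⟶ S := Spec.map (CommRingCat.ofHom g) ≫ S.fromSpecStalk s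
  refine ⟨V, inferInstance, inferInstance, inferInstance, v, ?_, ?_⟩
  · have h1 : Spec.map (CommRingCat.ofHom g) (IsLocalRing.closedPoint V) =
        IsLocalRing.closedPoint (S.presheaf.stalk s) := by
      have : IsLocalHom g := hloc
      exact IsLocalRing.comap_closedPoint g
    change (Spec.map (CommRingCat.ofHom g) ≫ S.fromSpecStalk s) (IsLocalRing.closedPoint V) = s
    rw [Scheme.Hom.comp_apply, h1, Scheme.fromSpecStalk_closedPoint]
  · have h2 : Spec.map (CommRingCat.ofHom (algebraMap V Ω)) ≫ v = S.fromSpecResidueField s' := by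
      change _ ≫ Spec.map (CommRingCat.ofHom g) ≫ S.fromSpecStalk s = _
      rw [← Category.assoc, ← Spec.map_comp]
      have h3 : CommRingCat.ofHom g ≫ CommRingCat.ofHom (algebraMap V Ω) = φ := by
        ext x
        rfl
      rw [h3, Spec.map_comp, Category.assoc,
        Scheme.SpecMap_stalkSpecializes_fromSpecStalk]
      rfl
    have h3 : (⊥ : PrimeSpectrum V) = Spec.map (CommRingCat.ofHom (algebraMap V Ω))
        (IsLocalRing.closedPoint Ω) := by
      apply PrimeSpectrum.ext
      change ⊥ = Ideal.comap (algebraMap V Ω) (IsLocalRing.maximalIdeal Ω)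
      rw [IsLocalRing.maximalIdeal_eq_bot,
        Ideal.comap_bot_of_injective _ (IsFractionRing.injective V Ω)]
    rw [h3, ← Scheme.Hom.comp_apply, h2, Scheme.fromSpecResidueField_apply]

/-- Over a valuation ring, the transcendence degree of the residue extension does not drop under
generization from the closed to the generic fibre. -/
theorem rtd_le_of_specializes {R : Type u} [CommRing R] [IsDomain R] [ValuationRing R] {X : Scheme.{u}}
    (f : X ⟶ Spec (CommRingCat.of R)) [LocallyOfFiniteType f] {ζ ξ : X} (h : ζ ⤳ ξ)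
    (hζ : f ζ = (⊥ : PrimeSpectrum R)) (hξ : f ξ = IsLocalRing.closedPoint R) :
    rtd f ξ ≤ rtd f ζ := by
  let Y := Spec (CommRingCat.of R)
  have hU : IsAffineOpen (⊤ : Y.Opens) := isAffineOpen_top Y
  obtain ⟨V, hV, hξV, -⟩ := exists_isAffineOpen_mem_and_subset (X := X) (x := ξ) (U := ⊤) trivial
  have hζV : ζ ∈ V := h.mem_open V.2 hξV
  have e : V ≤ f ⁻¹ᵁ (⊤ : Y.Opens) := fun _ _ => trivial
  let Γ := Γ(Y, ⊤)
  let E : R ≃+* Γ := (Scheme.ΓSpecIso (CommRingCat.of R)).symm.commRingCatIsoToRingEquiv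
  have hdom : IsDomain Γ := MulEquiv.isDomain R E.symm.toMulEquiv
  have hval : ValuationRing Γ := Function.Surjective.valuationRing E.toRingHom E.surjective
  have hsurj : ∀ P : PrimeSpectrum Γ, ∃ y : (⊤ : Y.Opens), hU.primeIdealOf y = P := by
    intro P
    refine ⟨⟨hU.fromSpec P, trivial⟩, ?_⟩
    apply hU.fromSpec.isOpenEmbedding.injective
    rw [hU.fromSpec_primeIdealOf]
  have hpξ : (hU.primeIdealOf ⟨f ξ, trivial⟩).asIdeal = IsLocalRing.maximalIdeal Γ := by
    apply le_antisymm
    · exact IsLocalRing.le_maximalIdeal (hU.primeIdealOf ⟨f ξ, trivial⟩).isPrime.ne_top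
    · obtain ⟨y, hy⟩ := hsurj (IsLocalRing.closedPoint Γ)
      have h1 : (y : Y) ⤳ f ξ := by
        rw [hξ]
        exact (PrimeSpectrum.le_iff_specializes _ _).mp (IsLocalRing.le_maximalIdeal y.1.isPrime.ne_top)
      have h2 := primeIdealOf_le_of_specializes hU h1 trivial trivial
      have h3 : hU.primeIdealOf ⟨(y : Y), trivial⟩ = IsLocalRing.closedPoint Γ := hy
      rw [h3] at h2
      exact h2
  have hpζ : (hU.primeIdealOf ⟨f ζ, trivial⟩).asIdeal = ⊥ := by
    apply le_antisymm _ bot_le
    obtain ⟨y, hy⟩ := hsurj ⊥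
    have h1 : f ζ ⤳ (y : Y) := by
      rw [hζ]
      exact (PrimeSpectrum.le_iff_specializes _ _).mp bot_le
    have h2 := primeIdealOf_le_of_specializes hU h1 trivial trivial
    have h3 : hU.primeIdealOf ⟨(y : Y), trivial⟩ = ⊥ := hy
    rw [h3] at h2
    exact h2
  let q := (hV.primeIdealOf ⟨ξ, hξV⟩).asIdeal
  let q' := (hV.primeIdealOf ⟨ζ, hζV⟩).asIdeal
  have hqq' : q' ≤ q := primeIdealOf_le_of_specializes hV h hξV hζV
  let φ : Γ →+* Γ(X, V) := (f.appLE ⊤ V e).hom
  have hq : (hU.primeIdealOf ⟨f ξ, e hξV⟩).asIdeal = q.comap φ :=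
    congrArg PrimeSpectrum.asIdeal (IsAffineOpen.comap_primeIdealOf_appLE ⊤ hU V hV e hξV).symm
  have hq' : (hU.primeIdealOf ⟨f ζ, e hζV⟩).asIdeal = q'.comap φ :=
    congrArg PrimeSpectrum.asIdeal (IsAffineOpen.comap_primeIdealOf_appLE ⊤ hU V hV e hζV).symm
  have hqm : q.comap φ = IsLocalRing.maximalIdeal Γ := hq.symm.trans hpξ
  have hq'0 : q'.comap φ = ⊥ := hq'.symm.trans hpζ
  have e1 := rtd_eq_trd_quotientMap f hU hV e ξ hξV (e hξV) (IsLocalRing.maximalIdeal Γ)
    hpξ.symm hqm.ge
  have e2 := rtd_eq_trd_quotientMap f hU hV e ζ hζV (e hζV) ⊥ hpζ.symm bot_le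
  have hfin := rtd_lt_aleph0 f ξ
  rw [e1] at hfin ⊢
  rw [e2]
  -- the ring homomorphism `Γ → Γ(X, V) / q'`
  let φ' : Γ →+* Γ(X, V) ⧸ q' := (Ideal.Quotient.mk q').comp φ
  have hφ' : Function.Injective φ' := by
    rw [RingHom.injective_iff_ker_eq_bot, ← hq'0]
    ext a
    rw [RingHom.mem_ker, Ideal.mem_comap]
    exact Ideal.Quotient.eq_zero_iff_mem
  have h3 := trd_le φ' hφ' (Ideal.Quotient.factor hqq') (Ideal.Quotient.factor_surjective hqq')
    (Ideal.quotientMap q φ hqm.ge) (by
      ext a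
      rfl) hfin
  refine h3.trans (le_of_eq ?_)
  have h4 : φ' = (Ideal.quotientMap q' φ bot_le).comp (Ideal.Quotient.mk (⊥ : Ideal Γ)) := by
    ext a
    rfl
  have hb : Function.Injective (Ideal.Quotient.mk (⊥ : Ideal Γ)) := by
    rw [RingHom.injective_iff_ker_eq_bot, Ideal.mk_ker]
  have : IsDomain (Γ ⧸ (⊥ : Ideal Γ)) := Ideal.Quotient.isDomain _
  have hq'p : q'.IsPrime := (hV.primeIdealOf ⟨ζ, hζV⟩).isPrime
  have hinj : Function.Injective (Ideal.quotientMap q' φ (bot_le : ⊥ ≤ q'.comap φ)) :=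
    Ideal.quotientMap_injective' hq'0.le
  rw [h4, trd_comp' _ _ hb hinj, trd_eq_zero_of_surjective _ hb Ideal.Quotient.mk_surjective,
    zero_add]

/-- If `f` is universally open at a point `ξ` which is generic in its fibre, then every fibre at a
generization of `f ξ` has a point with at least the same transcendence degree. -/
theorem exists_rtd_ge {X Y : Scheme.{u}} (f : X ⟶ Y) [LocallyOfFiniteType f] {ξ : X}
    (hξ : FibGeneric f ξ) (ho : EGA43.IsUnivOpenAt f ξ) {y' : Y} (h : y' ⤳ f ξ) :
    ∃ ζ : X, f ζ = y' ∧ rtd f ξ ≤ rtd f ζ := by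
  obtain ⟨R, _, _, _, v, hv, hv'⟩ := exists_valuation h
  let p₂ : pullback f v ⟶ Spec (CommRingCat.of R) := pullback.snd f v
  have : LocallyOfFiniteType p₂ := inferInstanceAs (LocallyOfFiniteType (pullback.snd f v))
  obtain ⟨t, ht1, ht2⟩ := Scheme.Pullback.exists_preimage_pullback (f := f) (g := v) ξ
    (IsLocalRing.closedPoint R) hv.symm
  have hc : ∀ w : ↥(pullback f v), f (pullback.fst f v w) = v (p₂ w) := fun w => by
    rw [← Scheme.Hom.comp_apply, pullback.condition, Scheme.Hom.comp_apply]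
  -- a generic point of the closed fibre above `ξ`
  obtain ⟨ξ', h1, h2, h3⟩ := Groth.Agent.CycB.RelDim.exists_fibGeneric_specializes p₂ t
  have hξ'c : p₂ ξ' = IsLocalRing.closedPoint R := h2.trans ht2
  have h4 : pullback.fst f v ξ' = ξ := by
    apply hξ
    · rw [hc, hξ'c, hv]
    · rw [← ht1]
      exact h1.map (pullback.fst f v).continuous
  have h5 : rtd p₂ ξ' = rtd f ξ := by
    rw [← h4]
    exact rtd_snd_of_fibGeneric_snd h3
  -- lifting the generization
  let b : Spec (CommRingCat.of R) := (⊥ : PrimeSpectrum R)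
  have hb : b ⤳ IsLocalRing.closedPoint R := (PrimeSpectrum.le_iff_specializes _ _).mp bot_le
  have h6 : ξ' ∈ closure (Set.range (p₂.fiberι b)) := by
    rw [Scheme.Hom.range_fiberι, mem_closure_iff_nhds]
    intro O hO
    have h7 : p₂ '' O ∈ nhds (p₂ ξ') := ho _ v ξ' h4 O hO
    rw [hξ'c] at h7
    obtain ⟨z, hz, hzb⟩ := mem_of_mem_nhds (hb h7)
    exact ⟨z, hz, hzb⟩
  have hqc : QuasiCompact (p₂.fiberι b) := by
    have : QuasiCompact ((Spec (CommRingCat.of R)).fromSpecResidueField b) := inferInstance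
    exact inferInstanceAs (QuasiCompact (pullback.fst p₂
      ((Spec (CommRingCat.of R)).fromSpecResidueField b)))
  obtain ⟨w, hw⟩ := Groth.Agent.Sga3C.GenPts.exists_specializes_of_mem_closure_range
    (p₂.fiberι b) ξ' h6
  have hwb : p₂ (p₂.fiberι b w) = b := by
    have : p₂.fiberι b w ∈ Set.range (p₂.fiberι b) := ⟨w, rfl⟩
    rw [Scheme.Hom.range_fiberι] at this
    exact this
  have h8 := rtd_le_of_specializes p₂ hw hwb hξ'c
  obtain ⟨ζ', h9, h10, h11⟩ :=
    Groth.Agent.CycB.RelDim.exists_fibGeneric_specializes p₂ (p₂.fiberι b w)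
  refine ⟨pullback.fst f v ζ', ?_, ?_⟩
  · rw [hc, h10, hwb]
    exact hv'
  · rw [← h5, ← rtd_snd_of_fibGeneric_snd h11]
    exact h8.trans (Groth.Agent.VarietyA.LocDim.rtd_le_of_specializes p₂ h9 h10)

end K204.ValRtd
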