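import Groth.Agent.Sga3.H780.ActSep
import Groth.Prelude.Def_EGA43

/-!
# Closure of the diagonal of a scheme with an action of a group scheme

Moving a point of the closure of the diagonal of `X/S` into `U ×_S U`, `U` an open of `X` separated
over `S`, by a point of `G` at which the projection is open.
-/

set_option autoImplicit false

universe u

open CategoryTheory CategoryTheory.Limits MonoidalCategory CartesianMonoidalCategory MonObj GrpObj AlgebraicGeometry

namespace K204.ActClos

open Groth.Agent Groth.Agent.Sga3.H780.ActSep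

section Sep

variable {X S : Scheme.{u}} (f : X ⟶ S)

/-- If the diagonal of `X/S` is closed in `V ×_S V`, then `V` is separated over `S`. -/
theorem isSeparated_of_forall (V : X.Opens)
    (h : ∀ w : ↥(pullback f f), pullback.fst f f w ∈ V → pullback.snd f f w ∈ V →
      w ∈ closure (Set.range (pullback.diagonal f)) → w ∈ Set.range (pullback.diagonal f)) :
    IsSeparated (V.ι ≫ f) := by
  have himm : IsImmersion (pullback.diagonal (V.ι ≫ f)) := inferInstance
  constructor
  suffices H : IsClosed (Set.range (pullback.diagonal (V.ι ≫ f))) by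
    exact IsClosedImmersion.of_isPreimmersion _ H
  let j : pullback (V.ι ≫ f) (V.ι ≫ f) ⟶ pullback f f :=
    pullback.map _ _ _ _ V.ι V.ι (𝟙 S) (by simp) (by simp)
  have hj : IsOpenImmersion j := inferInstance
  have hj1 : j ≫ pullback.fst f f = pullback.fst _ _ ≫ V.ι := pullback.lift_fst _ _ _
  have hj2 : j ≫ pullback.snd f f = pullback.snd _ _ ≫ V.ι := pullback.lift_snd _ _ _
  have hΔ : pullback.diagonal (V.ι ≫ f) ≫ j = V.ι ≫ pullback.diagonal f := by
    apply pullback.hom_ext
    · rw [Category.assoc, pullback.lift_fst, Category.assoc, pullback.diagonal_fst,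
        pullback.diagonal_fst_assoc, Category.comp_id]
    · rw [Category.assoc, pullback.lift_snd, Category.assoc, pullback.diagonal_snd,
        pullback.diagonal_snd_assoc, Category.comp_id]
  rw [← closure_subset_iff_isClosed]
  intro v hv
  have h1 : j v ∈ closure (Set.range (pullback.diagonal f)) := by
    have h2 := image_closure_subset_closure_image j.continuous ⟨v, hv, rfl⟩
    refine closure_mono ?_ h2
    rintro _ ⟨_, ⟨x, rfl⟩, rfl⟩
    exact ⟨V.ι x, by rw [← Scheme.Hom.comp_apply, ← hΔ, Scheme.Hom.comp_apply]⟩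
  have h3 : pullback.fst f f (j v) ∈ V := by
    rw [← Scheme.Hom.comp_apply, hj1, Scheme.Hom.comp_apply]
    exact (pullback.fst (V.ι ≫ f) (V.ι ≫ f) v).2
  have h4 : pullback.snd f f (j v) ∈ V := by
    rw [← Scheme.Hom.comp_apply, hj2, Scheme.Hom.comp_apply]
    exact (pullback.snd (V.ι ≫ f) (V.ι ≫ f) v).2
  obtain ⟨x, hx⟩ := h _ h3 h4 h1
  have hxV : x ∈ V := by
    have : (pullback.diagonal f ≫ pullback.fst f f) x = x := by simp
    rw [← this, Scheme.Hom.comp_apply, hx]
    exact h3
  refine ⟨⟨x, hxV⟩, j.isOpenEmbedding.injective ?_⟩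
  rw [← Scheme.Hom.comp_apply, hΔ, Scheme.Hom.comp_apply]
  exact hx

end Sep

variable {S : Scheme.{u}} {G X : Over S} [GrpObj G] (a : AlgGrp.Action G X)

/-- The diagonal of `X`. -/
noncomputable abbrev dg (X : Over S) : X ⟶ X ⊗ X := lift (𝟙 X) (𝟙 X)

/-- The map `(x₁, x₂, g) ↦ g x₁`. -/
noncomputable def α : (X ⊗ X) ⊗ G ⟶ X :=
  lift (snd (X ⊗ X) G) (fst (X ⊗ X) G ≫ fst X X) ≫ a.act

/-- The map `(x₁, x₂, g) ↦ g x₂`. -/
noncomputable def β : (X ⊗ X) ⊗ G ⟶ X :=
  lift (snd (X ⊗ X) G) (fst (X ⊗ X) G ≫ snd X X) ≫ a.act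

/-- The map `(x₁, x₂, g) ↦ (g x₁, g x₂)`. -/
noncomputable def φ : (X ⊗ X) ⊗ G ⟶ X ⊗ X := lift (α a) (β a)

/-- the two preimages of the diagonal agree -/
theorem preimage_eq : (fst (X ⊗ X) G).left ⁻¹' (Set.range (dg X).left) =
    (φ a).left ⁻¹' (Set.range (dg X).left) := by
  let T : Over S := X ⊗ X
  let d : X ⟶ T := lift (𝟙 X) (𝟙 X)
  let q : T ⊗ G ⟶ T := fst T G
  let y : T ⊗ G ⟶ G := snd T G
  let α : T ⊗ G ⟶ X := lift y (q ≫ fst X X) ≫ a.act
  let β : T ⊗ G ⟶ X := lift y (q ≫ snd X X) ≫ a.act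
  let φ : T ⊗ G ⟶ T := lift α β
  change q.left ⁻¹' (Set.range d.left) = φ.left ⁻¹' (Set.range d.left)
  ext w
  constructor
  · intro hw
    obtain ⟨E, h, h', hh, e, rfl⟩ := Sga3C.GrpSep.exists_lift_of_mem_range q d w hw
    have h1 : h ≫ φ = (h ≫ α) ≫ d := by
      have ha : h ≫ q ≫ fst X X = h' := by
        rw [← Category.assoc, hh, Category.assoc]; simp [d]
      have hb : h ≫ q ≫ snd X X = h' := by
        rw [← Category.assoc, hh, Category.assoc]; simp [d]
      have hab : h ≫ α = h ≫ β := by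
        simp only [α, β, comp_lift_assoc, ha, hb]
      apply CartesianMonoidalCategory.hom_ext
      · simp [φ, d]
      · simp [φ, d, hab]
    refine ⟨(h ≫ α).left e, ?_⟩
    rw [← Scheme.Hom.comp_apply, ← Scheme.Hom.comp_apply, ← Over.comp_left, ← Over.comp_left, h1]
  · intro hw
    obtain ⟨E, h, h', hh, e, rfl⟩ := Sga3C.GrpSep.exists_lift_of_mem_range φ d w hw
    have h1 : h ≫ q = (h ≫ q ≫ fst X X) ≫ d := by
      have ha : h ≫ α = h' := by
        have : h ≫ φ ≫ fst X X = h' := by rw [← Category.assoc, hh, Category.assoc]; simp [d]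
        simpa [φ] using this
      have hb : h ≫ β = h' := by
        have : h ≫ φ ≫ snd X X = h' := by rw [← Category.assoc, hh, Category.assoc]; simp [d]
        simpa [φ] using this
      have hab : h ≫ q ≫ fst X X = h ≫ q ≫ snd X X := by
        refine act_cancel a (h ≫ y) _ _ ?_
        rw [← comp_lift_assoc, ← comp_lift_assoc]
        exact ha.trans hb.symm
      apply CartesianMonoidalCategory.hom_ext
      · simp [d]
      · simp [d, hab]
    refine ⟨(h ≫ q ≫ fst X X).left e, ?_⟩
    rw [← Scheme.Hom.comp_apply, ← Scheme.Hom.comp_apply, ← Over.comp_left, ← Over.comp_left, h1]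

/-- If `t` is in the closure of the diagonal, `w` is a point of `X × X × G` over `t` at which the
projection is open, and `w` moves `t` into `U ×_S U`, `U` separated over `S`, then `t` is in the
diagonal. -/
theorem mem_range (U : X.left.Opens) (hU : IsSeparated (U.ι ≫ X.hom)) (t : (X ⊗ X).left)
    (ht : t ∈ closure (Set.range (dg X).left)) (w : ((X ⊗ X) ⊗ G).left)
    (hwt : (fst (X ⊗ X) G).left w = t)
    (hw : ∀ O : Set ((X ⊗ X) ⊗ G).left, O ∈ nhds w → (fst (X ⊗ X) G).left '' O ∈ nhds t)
    (h1 : (α a).left w ∈ U) (h2 : (β a).left w ∈ U) :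
    t ∈ Set.range (dg X).left := by
  have hw1 : w ∈ closure ((fst (X ⊗ X) G).left ⁻¹' (Set.range (dg X).left)) := by
    rw [mem_closure_iff_nhds]
    intro O hO
    obtain ⟨z, ⟨v, hv, rfl⟩, hz⟩ := mem_closure_iff_nhds.mp ht _ (hw O hO)
    exact ⟨v, hv, hz⟩
  have hw2 : (φ a).left w ∈ closure (Set.range (dg X).left) := by
    rw [preimage_eq] at hw1
    exact ((φ a).left.continuous.closure_preimage_subset _) hw1
  have hw3 : (φ a).left w ∈ Set.range (dg X).left := by
    refine Sga3C.GrpSep.mem_range_diagonal_of_mem_closure X.hom U _ ?_ ?_ hw2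
    · have : ((φ a).left ≫ pullback.fst X.hom X.hom) w = (α a).left w := by
        rw [show (φ a).left ≫ pullback.fst X.hom X.hom = (φ a ≫ fst X X).left from rfl, φ, lift_fst]
      rw [← Scheme.Hom.comp_apply, this]
      exact h1
    · have : ((φ a).left ≫ pullback.snd X.hom X.hom) w = (β a).left w := by
        rw [show (φ a).left ≫ pullback.snd X.hom X.hom = (φ a ≫ snd X X).left from rfl, φ, lift_snd]
      rw [← Scheme.Hom.comp_apply, this]
      exact h2
  have hw4 : w ∈ (fst (X ⊗ X) G).left ⁻¹' (Set.range (dg X).left) := by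
    rw [preimage_eq a]; exact hw3
  rw [← hwt]
  exact hw4

end K204.ActClos
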