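import Mathlib.AlgebraicGeometry.Fiber
import Mathlib.AlgebraicGeometry.Morphisms.UniversallyOpen
import Mathlib.AlgebraicGeometry.Morphisms.FiniteType
import Mathlib.AlgebraicGeometry.Geometrically.Basic
import Mathlib.AlgebraicGeometry.Morphisms.FlatDescent

/-!
# Base change of a fibre to a field extension
-/

set_option autoImplicit false

universe u

open CategoryTheory Limits AlgebraicGeometry

namespace K204.GeomFib

variable {X S : Scheme.{u}} (f : X ⟶ S) {K : Type u} [Field K] (t : Spec (.of K) ⟶ S)

/-- A field valued point factors through the residue field of its image. -/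
theorem exists_factor : ∃ ψ : Spec (.of K) ⟶ Spec (S.residueField (t (IsLocalRing.closedPoint K))),
    ψ ≫ S.fromSpecResidueField _ = t :=
  ⟨Spec.map (S.descResidueField (Scheme.stalkClosedPointTo t)),
    Scheme.descResidueField_stalkClosedPointTo_fromSpecResidueField K S t⟩

theorem exists_isPullback {s : S} (ψ : Spec (.of K) ⟶ Spec (S.residueField s))
    (h : ψ ≫ S.fromSpecResidueField s = t) :
    ∃ π : pullback t f ⟶ f.fiber s,
      IsPullback π (pullback.fst t f) (f.fiberToSpecResidueField s) ψ ∧
        π ≫ f.fiberι s = pullback.snd t f := by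
  let π : pullback t f ⟶ f.fiber s := pullback.lift (pullback.snd t f) (pullback.fst t f ≫ ψ) (by
    rw [Category.assoc, h, pullback.condition])
  have h1 : π ≫ f.fiberι s = pullback.snd t f := pullback.lift_fst _ _ _
  refine ⟨π, ?_, h1⟩
  refine IsPullback.of_right (h₁₂ := f.fiberι s) (h₂₂ := S.fromSpecResidueField s) (v₁₃ := f) ?_ ?_
    (IsPullback.of_hasPullback f (S.fromSpecResidueField s))
  · rw [h1, h]
    exact (IsPullback.of_hasPullback t f).flip
  · exact pullback.lift_snd _ _ _

/-- The base change to a field is locally of finite type if the fibres are. -/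
theorem lft (hf : ∀ s : S, LocallyOfFiniteType (f.fiberToSpecResidueField s)) :
    LocallyOfFiniteType (pullback.fst t f) := by
  obtain ⟨ψ, hψ⟩ := exists_factor t
  obtain ⟨π, h1, -⟩ := exists_isPullback f t ψ hψ
  exact MorphismProperty.of_isPullback h1 (hf _)

/-- The preimage of an open set which is dense in the fibre is dense in the base change of the fibre to
a field. -/
theorem dense_preimage {s : S} (hs : t (IsLocalRing.closedPoint K) = s) {U : Set X}
    (h : f ⁻¹' {s} ⊆ closure (U ∩ f ⁻¹' {s})) : Dense (pullback.snd t f ⁻¹' U) := by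
  subst hs
  obtain ⟨ψ, hψ⟩ := exists_factor t
  obtain ⟨π, h1, h2⟩ := exists_isPullback f t ψ hψ
  have h3 : UniversallyOpen ψ := inferInstance
  have h4 : UniversallyOpen π := MorphismProperty.of_isPullback h1.flip h3
  rw [dense_iff_inter_open]
  rintro O hO ⟨o, ho⟩
  have h5 : IsOpen (π '' O) := π.isOpenMap _ hO
  obtain ⟨O', hO', hOO'⟩ := (f.fiberι _).isEmbedding.isInducing.isOpen_iff.mp h5
  have h6 : f.fiberι _ (π o) ∈ O' := by
    have : π o ∈ π '' O := ⟨o, ho, rfl⟩
    rwa [← hOO'] at this
  have h7 : f.fiberι _ (π o) ∈ closure (U ∩ f ⁻¹' {t (IsLocalRing.closedPoint K)}) := by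
    refine h ?_
    rw [← f.range_fiberι]
    exact ⟨_, rfl⟩
  obtain ⟨v, hvO', hvU, hv⟩ := mem_closure_iff.mp h7 _ hO' h6
  rw [← f.range_fiberι] at hv
  obtain ⟨w, rfl⟩ := hv
  obtain ⟨z, hz, rfl⟩ : w ∈ π '' O := by rw [← hOO']; exact hvO'
  refine ⟨z, hz, ?_⟩
  rw [Set.mem_preimage, ← h2, Scheme.Hom.comp_apply]
  exact hvU

end K204.GeomFib
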