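import Groth.Agent.Sga3C.SchemImage
import Mathlib.AlgebraicGeometry.Morphisms.UniversallyOpen

/-!
# Projections are open at points above an open on which the structure morphism is universally open
-/

set_option autoImplicit false

universe u

open CategoryTheory CategoryTheory.Limits MonoidalCategory CartesianMonoidalCategory AlgebraicGeometry

namespace K204.OpenOn

variable {S : Scheme.{u}} {G : Over S}

/-- If `W ⊆ G` is open and universally open over `S`, the projection `T ⊗ G ⟶ T` is open at the points
above `W`. -/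
theorem image_mem_nhds (W : G.left.Opens) (hW : UniversallyOpen (W.ι ≫ G.hom)) (T : Over S)
    (w : (T ⊗ G).left) (hw : (snd T G).left w ∈ W) (O : Set (T ⊗ G).left) (hO : O ∈ nhds w) :
    (fst T G).left '' O ∈ nhds ((fst T G).left w) := by
  let W' : Over S := Over.mk (W.ι ≫ G.hom)
  let j : W' ⟶ G := Over.homMk W.ι
  have hpb : IsPullback (T ◁ j).left (snd T W').left (snd T G).left j.left :=
    Groth.Agent.Sga3C.SchemImage.isPullback_whiskerLeft_left j T
  have h1 : UniversallyOpen (fst T W').left := by
    have h2 : UniversallyOpen W'.hom := hW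
    exact inferInstanceAs (UniversallyOpen (pullback.fst T.hom W'.hom))
  obtain ⟨w', hw'⟩ : w ∈ Set.range (T ◁ j).left := by
    have h3 : ∃ v : W'.left, j.left v = (snd T G).left w := ⟨⟨_, hw⟩, rfl⟩
    obtain ⟨v, hv⟩ := h3
    obtain ⟨z, hz1, -⟩ := Scheme.Pullback.exists_preimage_pullback w v hv.symm
    refine ⟨hpb.isoPullback.inv z, ?_⟩
    rw [← Scheme.Hom.comp_apply, hpb.isoPullback_inv_fst, hz1]
  have h4 : (T ◁ j).left ⁻¹' O ∈ nhds w' := by
    refine (T ◁ j).left.continuous.continuousAt ?_
    rw [hw']
    exact hO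
  have h5 := (fst T W').left.isOpenMap.image_mem_nhds h4
  have h6 : (T ◁ j) ≫ fst T G = fst T W' := by simp
  have h7 : (fst T G).left w = (fst T W').left w' := by
    rw [← hw', ← Scheme.Hom.comp_apply, ← Over.comp_left, h6]
  rw [h7]
  refine Filter.mem_of_superset h5 ?_
  rintro _ ⟨z, hz, rfl⟩
  refine ⟨(T ◁ j).left z, hz, ?_⟩
  rw [← Scheme.Hom.comp_apply, ← Over.comp_left, h6]

end K204.OpenOn
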