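import Groth.Agent.Sga3C.HomogIrr
import Mathlib.AlgebraicGeometry.Noetherian

/-!
# Preimages of dense opens under orbit maps are dense

For a transitive action of a group scheme `G` locally of finite type on `X` and a point `x` of `X` with
values in an algebraically closed field `K`, if `X_K` is locally of finite type then the set of the
`g` in `G_K` with `g x` in a dense open subset is dense.
-/

set_option autoImplicit false

universe u

open CategoryTheory Limits MonoidalCategory CartesianMonoidalCategory MonObj GrpObj AlgebraicGeometry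

namespace K204.OrbDense

open Groth.Agent Groth.Agent.Sga3C Sga3C.Transl Sga3C.HomogIrr Sga3C.GenPts Sga3C.IrrComp

/-- A maximal point of a locally noetherian scheme has a neighbourhood in which it is dense. -/
theorem exists_open (Z : Scheme.{u}) [IsLocallyNoetherian Z] {z : Z} (hz : z ∈ genericPoints Z) :
    ∃ O : Set Z, IsOpen O ∧ O.Nonempty ∧ O ⊆ closure {z} := by
  obtain ⟨_, ⟨V, hV, rfl⟩, hzV, -⟩ :=
    Z.isBasis_affineOpens.exists_subset_of_mem_open (Set.mem_univ z) isOpen_univ
  change Z.Opens at V
  have h1 : IsNoetherian V := {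
    component_noetherian := fun U => by
      exact IsLocallyNoetherian.component_noetherian U
    toCompactSpace := isCompact_iff_compactSpace.mp hV.isCompact }
  have h2 : (V.ι : V → Z) ⁻¹' (closure {z}) ∈ irreducibleComponents V :=
    preimage_mem_irreducibleComponents hz V.ι.isOpenEmbedding
      ⟨z, subset_closure rfl, ⟨z, hzV⟩, rfl⟩
  obtain ⟨o, ho, ⟨p, hp⟩, ho'⟩ :=
    TopologicalSpace.NoetherianSpace.exists_isOpen_nonempty_subset_irreducibleComponent _ h2
  refine ⟨V.ι '' o, V.ι.isOpenEmbedding.isOpenMap _ ho, ⟨_, p, hp, rfl⟩, ?_⟩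
  rintro _ ⟨q, hq, rfl⟩
  exact ho' hq

/-- A dense open subset of a locally noetherian scheme contains the maximal points. -/
theorem mem_of_dense (Z : Scheme.{u}) [IsLocallyNoetherian Z] {z : Z} (hz : z ∈ genericPoints Z)
    {D : Set Z} (hD : IsOpen D) (hD' : Dense D) : z ∈ D := by
  obtain ⟨O, hO, hO', hOz⟩ := exists_open Z hz
  obtain ⟨v, hvO, hvD⟩ := hD'.inter_open_nonempty O hO hO'
  exact (specializes_iff_mem_closure.mpr (hOz hvO)).mem_open hD hvD

variable {S : Scheme.{u}} {G X : Over S} [GrpObj G] (a : AlgGrp.Action G X)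
variable {K : Type u} [Field K] [IsAlgClosed K] (t : Spec (.of K) ⟶ S)

/-- The orbit map sends maximal points to maximal points. -/
theorem orb_generic (hΦ : Surjective (lift a.act (snd G X)).left) [LocallyOfFiniteType G.hom]
    (x : Over.mk t ⟶ X) {γ : (Over.mk t ⊗ G).left} (hγ : γ ∈ genericPoints (Over.mk t ⊗ G).left) :
    (orb a x).left γ ∈ genericPoints (Over.mk t ⊗ X).left := by
  have hft : LocallyOfFiniteType (fst (Over.mk t) G).left :=
    inferInstanceAs (LocallyOfFiniteType (pullback.fst t G.hom))
  have : IsLocallyNoetherian (Over.mk t).left :=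
    inferInstanceAs (IsLocallyNoetherian (Spec (.of K)))
  have : JacobsonSpace (Over.mk t).left :=
    inferInstanceAs (JacobsonSpace (Spec (.of K)))
  have : IsLocallyNoetherian (Over.mk t ⊗ G).left :=
    LocallyOfFiniteType.isLocallyNoetherian (fst (Over.mk t) G).left
  have : JacobsonSpace (Over.mk t ⊗ G).left :=
    LocallyOfFiniteType.jacobsonSpace (fst (Over.mk t) G).left
  -- a maximal point of `T ⊗ X` in the image of a maximal point
  obtain ⟨z, hz, -⟩ := exists_mem_genericPoints_specializes
    ((lift (𝟙 (Over.mk t)) x).left (IsLocalRing.closedPoint K))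
  obtain ⟨w, hw⟩ := (orb_surjective a hΦ x).surj z
  obtain ⟨γ', hγ', hγw⟩ := exists_mem_genericPoints_specializes w
  have h1 : (orb a x).left γ' = z :=
    eq_of_specializes_of_mem_genericPoints hz _ (hw ▸ hγw.map (orb a x).left.continuous)
  -- a translation moving `γ'` to `γ`
  obtain ⟨O, hO, hO', hOγ⟩ := exists_open (Over.mk t ⊗ G).left hγ
  obtain ⟨h, hhO, hh⟩ := nonempty_inter_closedPoints hO' hO.isLocallyClosed
  obtain ⟨h', hh'γ, hh'⟩ := nonempty_inter_closedPoints (Z := closure {γ'})
    ⟨γ', subset_closure rfl⟩ isClosed_closure.isLocallyClosed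
  obtain ⟨g, hg⟩ := exists_transl_eq (regular G) t (surjective_regular G) h' h hh' hh
  have h2 : (transl (regular G) g).hom.left γ' ⤳ h := by
    rw [← hg]
    exact (specializes_iff_mem_closure.mpr hh'γ).map
      (transl (regular G) g).hom.left.continuous
  have h3 : (transl (regular G) g).hom.left γ' ∈ O := h2.mem_open hO hhO
  have h4 : homeo (transl (regular G) g) γ' ∈ genericPoints (Over.mk t ⊗ G).left :=
    homeomorph_mem_genericPoints _ hγ'
  have h5 : γ = (transl (regular G) g).hom.left γ' :=
    eq_of_specializes_of_mem_genericPoints h4 _ (specializes_iff_mem_closure.mpr (hOγ h3))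
  have h6 : (orb a x).left γ = (transl a g).hom.left z := by
    rw [h5, ← comp_left_apply, transl_orb, comp_left_apply, h1]
  rw [h6]
  exact homeomorph_mem_genericPoints (homeo (transl a g)) hz

/-- The preimage of a dense open under the orbit map is dense. -/
theorem dense_preimage (hΦ : Surjective (lift a.act (snd G X)).left) [LocallyOfFiniteType G.hom]
    (hX : LocallyOfFiniteType (fst (Over.mk t) X).left)
    (x : Over.mk t ⟶ X) {D : Set (Over.mk t ⊗ X).left} (hD : IsOpen D) (hD' : Dense D) :
    Dense ((orb a x).left ⁻¹' D) := by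
  have : IsLocallyNoetherian (Over.mk t).left :=
    inferInstanceAs (IsLocallyNoetherian (Spec (.of K)))
  have : IsLocallyNoetherian (Over.mk t ⊗ X).left :=
    LocallyOfFiniteType.isLocallyNoetherian (fst (Over.mk t) X).left
  rw [dense_iff_inter_open]
  intro V hV ⟨v, hv⟩
  obtain ⟨γ, hγ, hγv⟩ := exists_mem_genericPoints_specializes v
  exact ⟨γ, hγv.mem_open hV hv, mem_of_dense _ (orb_generic a t hΦ x hγ) hD hD'⟩

end K204.OrbDense
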