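import Groth.Agent.SGA3.K204.Spread
import Groth.Agent.SGA3.K204.ArtThick
import Mathlib.AlgebraicGeometry.Morphisms.LocalFlatDescent
import Mathlib.FieldTheory.IsAlgClosed.AlgebraicClosure

/-!
# Properties of homomorphisms of group schemes over a local artinian ring

Reduction to the geometric special fibre.
-/

set_option autoImplicit false
universe u
open CategoryTheory CategoryTheory.Limits MonoidalCategory CartesianMonoidalCategory MonObj GrpObj AlgebraicGeometry

namespace K204.ArtHom

open Groth.Agent.Sga3C.SchemImage K204.ArtThick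

variable (A : Type u) [CommRing A] [IsArtinianRing A] [IsLocalRing A]

/-- An algebraic closure of the residue field. -/
abbrev Ω : Type u := AlgebraicClosure (IsLocalRing.ResidueField A)

/-- The geometric closed point over the closed point. -/
noncomputable abbrev jΩ : Spec (CommRingCat.of (Ω A)) ⟶ Spec (CommRingCat.of (IsLocalRing.ResidueField A)) :=
  Spec.map (CommRingCat.ofHom (algebraMap (IsLocalRing.ResidueField A) (Ω A)))

/-- The closed point. -/
noncomputable abbrev T₀ : Over (Spec (CommRingCat.of A)) := Over.mk (clPt A)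

/-- The geometric closed point. -/
noncomputable abbrev T : Over (Spec (CommRingCat.of A)) := Over.mk (jΩ A ≫ clPt A)

/-- The comparison. -/
noncomputable abbrev j : T A ⟶ T₀ A := Over.homMk (jΩ A)

instance : Surjective (jΩ A) :=
  ⟨fun _ => ⟨IsLocalRing.closedPoint _, Subsingleton.elim (α := PrimeSpectrum _) _ _⟩⟩

instance : Flat (jΩ A) := by
  rw [Flat.SpecMap_iff]
  change (algebraMap (IsLocalRing.ResidueField A) (Ω A)).Flat
  rw [RingHom.flat_algebraMap_iff]
  infer_instance

instance : IsAffineHom (jΩ A) :=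
  inferInstanceAs (IsAffineHom (Spec.map _))

instance surjective_T : Surjective (T A).hom := by
  have h := (thick_clPt A).1.2
  change Surjective (jΩ A ≫ clPt A)
  infer_instance

variable {A} {G H : Over (Spec (CommRingCat.of A))} [GrpObj G] [GrpObj H]

/-- Spreading from a nonempty open. -/
theorem spread_T [LocallyOfFiniteType G.hom] (u : G ⟶ H) [IsMonHom u]
    {P : MorphismProperty Scheme.{u}} [IsZariskiLocalAtSource P] [P.IsStableUnderBaseChange]
    (W : G.left.Opens) (hW : (W : Set G.left).Nonempty) (h : P (W.ι ≫ u.left)) :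
    P (T A ◁ u).left := by
  have hs : Surjective (snd (T A) G).left :=
    inferInstanceAs (Surjective (pullback.snd (T A).hom G.hom))
  obtain ⟨w, hw⟩ := hW
  obtain ⟨z, hz⟩ := hs.surj w
  refine K204.Spread.spread (jΩ A ≫ clPt A) u ((snd (T A) G).left ⁻¹ᵁ W)
    ⟨z, by change (snd (T A) G).left z ∈ W; rw [hz]; exact hw⟩ ?_
  have hpb : IsPullback ((snd (T A) G).left ∣_ W)
      (((snd (T A) G).left ⁻¹ᵁ W).ι ≫ (T A ◁ u).left) (W.ι ≫ u.left) (snd (T A) H).left :=
    (isPullback_morphismRestrict (snd (T A) G).left W).paste_vert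
      (isPullback_whiskerLeft_left u (T A)).flip
  exact MorphismProperty.of_isPullback hpb h

omit [IsArtinianRing A] [GrpObj G] [GrpObj H] in
/-- Descent from the geometric closed fibre to the closed fibre. -/
theorem desc_T (u : G ⟶ H) {P : MorphismProperty Scheme.{u}}
    [P.DescendsAlong (@Surjective ⊓ @Flat ⊓ @QuasiCompact : MorphismProperty Scheme.{u})]
    (h : P (T A ◁ u).left) : P (T₀ A ◁ u).left := by
  have h1 := (isPullback_whiskerLeft_left u (T A)).flip
  have h2 := (isPullback_whiskerLeft_left u (T₀ A)).flip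
  have e1 : (snd (T A) G).left = (j A ▷ G).left ≫ (snd (T₀ A) G).left := by
    rw [← Over.comp_left, whiskerRight_snd]
  have e2 : (snd (T A) H).left = (j A ▷ H).left ≫ (snd (T₀ A) H).left := by
    rw [← Over.comp_left, whiskerRight_snd]
  rw [e1, e2] at h1
  have h3 : IsPullback (j A ▷ G).left (T A ◁ u).left (T₀ A ◁ u).left (j A ▷ H).left := by
    refine IsPullback.of_right h1 ?_ h2
    rw [← Over.comp_left, ← Over.comp_left, whisker_exchange]
  have h4 : IsPullback (j A ▷ H).left (fst (T A) H).left (fst (T₀ A) H).left (jΩ A) :=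
    isPullback_whiskerRight_left (j A) H
  have h5 : (@Surjective ⊓ @Flat ⊓ @QuasiCompact : MorphismProperty Scheme.{u}) (j A ▷ H).left :=
    ⟨⟨MorphismProperty.of_isPullback (P := @Surjective) h4.flip inferInstance,
      MorphismProperty.of_isPullback (P := @Flat) h4.flip inferInstance⟩,
      MorphismProperty.of_isPullback (P := @QuasiCompact) h4.flip inferInstance⟩
  exact MorphismProperty.of_isPullback_of_descendsAlong (Q := (@Surjective ⊓ @Flat ⊓ @QuasiCompact :
    MorphismProperty Scheme.{u})) h3.flip h5 h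

omit [IsArtinianRing A] [GrpObj G] [GrpObj H] in
/-- The cartesian squares of the special fibre. -/
theorem isPullback_G (u : G ⟶ H) : IsPullback (snd (T₀ A) G).left
    ((T₀ A ◁ u).left ≫ (fst (T₀ A) H).left) (u.left ≫ H.hom) (clPt A) := by
  have e1 : (T₀ A ◁ u).left ≫ (fst (T₀ A) H).left = (fst (T₀ A) G).left := by
    rw [← Over.comp_left, whiskerLeft_fst]
  rw [e1, Over.w u]
  exact (IsPullback.of_hasPullback (T₀ A).hom G.hom).flip

omit [IsArtinianRing A] [GrpObj H] in
theorem isPullback_H : IsPullback (snd (T₀ A) H).left (fst (T₀ A) H).left H.hom (clPt A) :=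
  (IsPullback.of_hasPullback (T₀ A).hom H.hom).flip

omit [IsArtinianRing A] [GrpObj G] [GrpObj H] in
theorem comm (u : G ⟶ H) : (snd (T₀ A) G).left ≫ u.left = (T₀ A ◁ u).left ≫ (snd (T₀ A) H).left :=
  (isPullback_whiskerLeft_left u (T₀ A)).flip.w

end K204.ArtHom
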