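import Groth.Agent.SGA3.K204.FtDesc
import Groth.Agent.SGA3.K204.ArtHom
import Groth.Agent.S1309

/-!
# A group scheme over a local artinian ring which is locally of finite type somewhere is locally of
finite type
-/

set_option autoImplicit false
universe u
open CategoryTheory CategoryTheory.Limits MonoidalCategory CartesianMonoidalCategory MonObj GrpObj AlgebraicGeometry

namespace K204.LftGrp

open Groth.Agent.Sga3C.SchemImage Groth.Agent.Sga3C.GrpBasic K204.ArtThick K204.ArtHom

/-- The special fibre is locally of finite type. -/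
theorem lft_fst {A : Type u} [CommRing A] [IsArtinianRing A] [IsLocalRing A]
    (G : Over (Spec (CommRingCat.of A))) [GrpObj G]
    (W : G.left.Opens) (hW : (W : Set G.left).Nonempty) [LocallyOfFiniteType (W.ι ≫ G.hom)] :
    LocallyOfFiniteType (fst (T₀ A) G).left := by
  have hsub : Subsingleton (Spec (CommRingCat.of A)) :=
    inferInstanceAs (Subsingleton (PrimeSpectrum A))
  refine K204.Spread.of_locally _ fun x₀ => ?_
  obtain ⟨y, hy⟩ := hW
  -- a common point
  let Z : Over (Spec (CommRingCat.of A)) := (T₀ A ⊗ G) ⊗ G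
  obtain ⟨z, hz1, hz2⟩ : ∃ z : Z.left, (fst (T₀ A ⊗ G) G).left z = x₀ ∧
      (snd (T₀ A ⊗ G) G).left z = y :=
    Scheme.Pullback.exists_preimage_pullback x₀ y (Subsingleton.elim _ _)
  let T : Over (Spec (CommRingCat.of A)) := Over.mk (Z.left.fromSpecResidueField z ≫ Z.hom)
  let ζ : T ⟶ Z := Over.homMk (Z.left.fromSpecResidueField z)
  let pt : T.left := IsLocalRing.closedPoint (Z.left.residueField z)
  have hζ : ζ.left pt = z := Z.left.fromSpecResidueField_apply z pt
  let xT : T ⟶ G := ζ ≫ fst _ _ ≫ snd _ _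
  let yT : T ⟶ G := ζ ≫ snd _ _
  let jT : T ⟶ T₀ A := ζ ≫ fst _ _ ≫ fst _ _
  let g : T ⟶ G := yT * xT⁻¹
  let w : (T ⊗ G).left := (lift (𝟙 T) xT).left pt
  have hw1 : (jT ▷ G).left w = x₀ := by
    have h1 : lift (𝟙 T) xT ≫ (jT ▷ G) = ζ ≫ fst _ _ := by
      ext1 <;> simp [jT, xT]
    change (jT ▷ G).left ((lift (𝟙 T) xT).left pt) = x₀
    rw [← Scheme.Hom.comp_apply, ← Over.comp_left, h1, Over.comp_left, Scheme.Hom.comp_apply, hζ]
    exact hz1
  let Ω' : (T ⊗ G).left.Opens := (snd T G).left ⁻¹ᵁ W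
  let Ω : (T ⊗ G).left.Opens := (mulLeftShear g).hom.left ⁻¹ᵁ Ω'
  have hw2 : w ∈ Ω := by
    have h1 : lift (𝟙 T) xT ≫ (mulLeftShear g).hom ≫ snd T G = yT := by
      rw [mulLeftShear_hom_snd, MonObj.comp_mul, lift_snd, lift_fst_assoc, Category.id_comp]
      simp [g]
    change (snd T G).left ((mulLeftShear g).hom.left ((lift (𝟙 T) xT).left pt)) ∈ W
    rw [← Scheme.Hom.comp_apply, ← Scheme.Hom.comp_apply, ← Over.comp_left, ← Over.comp_left, h1]
    change (ζ ≫ snd _ _).left pt ∈ W
    rw [Over.comp_left, Scheme.Hom.comp_apply, hζ, hz2]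
    exact hy
  have hΩ' : LocallyOfFiniteType (Ω'.ι ≫ (fst T G).left) := by
    have hpb : IsPullback ((snd T G).left ∣_ W) (Ω'.ι ≫ (fst T G).left) (W.ι ≫ G.hom) T.hom :=
      (isPullback_morphismRestrict (snd T G).left W).paste_vert
        (IsPullback.of_hasPullback T.hom G.hom).flip
    exact MorphismProperty.of_isPullback hpb inferInstance
  have hΩ : LocallyOfFiniteType (Ω.ι ≫ (fst T G).left) := by
    have h1 : Ω.ι ≫ (fst T G).left =
        ((mulLeftShear g).hom.left ∣_ Ω') ≫ Ω'.ι ≫ (fst T G).left := by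
      have h2 : (fst T G).left = (mulLeftShear g).hom.left ≫ (fst T G).left := by
        rw [← Over.comp_left, mulLeftShear_hom_fst]
      rw [morphismRestrict_ι_assoc, ← h2]
    rw [h1]
    have : IsIso (mulLeftShear g).hom.left := inferInstance
    infer_instance
  -- the field extension
  let φ : CommRingCat.of (IsLocalRing.ResidueField A) ⟶ Z.left.residueField z :=
    Spec.preimage jT.left
  have hφ : Spec.map φ = jT.left := Spec.map_preimage _
  let : Algebra (IsLocalRing.ResidueField A) (Z.left.residueField z) := φ.hom.toAlgebra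
  have hpb := isPullback_whiskerRight_left jT G
  rw [← hφ] at hpb
  obtain ⟨V, hV, hV'⟩ := K204.FtDesc.exists_nhd (k := IsLocalRing.ResidueField A)
    (L := Z.left.residueField z) hpb Ω w hw2 hΩ
  rw [hw1] at hV
  exact ⟨V, hV, hV'⟩

/-- **A group scheme which is locally of finite type somewhere is locally of finite type.** -/
theorem lft {A : Type u} [CommRing A] [IsArtinianRing A] [IsLocalRing A]
    (G : Over (Spec (CommRingCat.of A))) [GrpObj G]
    (W : G.left.Opens) (hW : (W : Set G.left).Nonempty) [LocallyOfFiniteType (W.ι ≫ G.hom)] :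
    LocallyOfFiniteType G.hom := by
  have h := lft_fst G W hW
  exact (Groth.Agent.S1309.result _ _ _ _ (thick_clPt A) (isPullback_H (H := G))).mp h

end K204.LftGrp
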