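import Groth.Agent.SGA3.K204.ClosedTransl
import Groth.Agent.S3022
import Groth.Agent.Ega43.UnivOpenAt
import Groth.Agent.Sga3C.IrrComp

/-!
# Quasi-sections of `G` translating finitely many points of a fibre into an open

The reduction of the statement to the existence of quasi-sections through closed points of fibres.
-/

set_option autoImplicit false

universe u

open CategoryTheory CategoryTheory.Limits MonoidalCategory CartesianMonoidalCategory MonObj GrpObj AlgebraicGeometry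

namespace K204.QsecTransl

open Groth.Agent Groth.Agent.CycB.RelDim Groth.Agent.S3022

/-- Existence of quasi-sections through closed points of fibres. -/
def HasQsec : Prop := ∀ (X S : Scheme.{u}) (f : X ⟶ S) [LocallyOfFinitePresentation f]
    (s : S) (x : X) (hxs : f.base x = s) (_ : IsClosed ((Subtype.val : ↥(f.base ⁻¹' {s}) → X) ⁻¹' {x}))
    (Z : Set ↥(f.base ⁻¹' {s})) (_ : Z ∈ irreducibleComponents ↥(f.base ⁻¹' {s})) (_ : x ∈ (Subtype.val '' Z))
    (z : X) (_ : z ∈ Subtype.val '' Z ∧ Subtype.val '' Z ⊆ closure {z}) (_ : EGA43.IsUnivOpenAt f z)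
    (_ : FlatMor.localDim ↥(f.base ⁻¹' {s}) ⟨x, hxs⟩ = topologicalKrullDim ↥Z),
    ∃ (S' S'' : Scheme.{u}) (_ : IsAffine S') (w : S' ⟶ S) (π : S'' ⟶ S') (h : S'' ⟶ X),
      Etale w ∧ IsFinite π ∧ Surjective π ∧ LocallyOfFinitePresentation π ∧ h ≫ f = π ≫ w ∧
      ∃ s'' : S'', (π ≫ w).base ⁻¹' {s} = {s''} ∧ h.base s'' = x ∧ IsIso (h.residueFieldMap s'')

theorem localDim_le_homeo {X Y : Type u} [TopologicalSpace X] [TopologicalSpace Y] (e : X ≃ₜ Y)
    (x : X) : FlatMor.localDim X x ≤ FlatMor.localDim Y (e x) := by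
  refine le_iInf fun V => ?_
  let U : {U : TopologicalSpace.Opens X // x ∈ U} := ⟨V.1.comap ⟨e, e.continuous⟩, V.2⟩
  refine (iInf_le _ U).trans (le_of_eq ?_)
  let K : (U.1 : Set X) ≃ₜ (V.1 : Set Y) := e.subtype fun _ => Iff.rfl
  exact IsHomeomorph.topologicalKrullDim_eq K K.isHomeomorph

/-- Local dimension is a topological invariant. -/
theorem localDim_homeo {X Y : Type u} [TopologicalSpace X] [TopologicalSpace Y] (e : X ≃ₜ Y) (x : X) :
    FlatMor.localDim X x = FlatMor.localDim Y (e x) := by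
  apply le_antisymm (localDim_le_homeo e x)
  have := localDim_le_homeo e.symm (e x)
  rwa [e.symm_apply_apply] at this

theorem closure_mem {X Y : Scheme.{u}} (f : X ⟶ Y) (z : X) (hz : FibGeneric f z) (s : Y)
    (hzs : f z = s) :
    closure {(⟨z, hzs⟩ : ↥(f ⁻¹' {s}))} ∈ irreducibleComponents ↥(f ⁻¹' {s}) := by
  subst hzs
  have h1 := Sga3C.IrrComp.homeomorph_image_mem_irreducibleComponents (f.fiberHomeo (f z))
    hz.closure_mem
  rw [Homeomorph.image_closure, Set.image_singleton] at h1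
  have h2 : f.fiberHomeo (f z) (f.asFiber z) = ⟨z, rfl⟩ := Subtype.ext (f.fiberι_asFiber z)
  rwa [h2] at h1

theorem dim_closure {S : Scheme.{u}} (G : Over S) [GrpObj G] [LocallyOfFiniteType G.hom] (z : G.left)
    (hz : FibGeneric G.hom z) (s : S) (hzs : G.hom z = s) :
    topologicalKrullDim ↥(closure {(⟨z, hzs⟩ : ↥(G.hom ⁻¹' {s}))}) =
      topologicalKrullDim (G.hom.fiber s) := by
  subst hzs
  obtain ⟨d, hd, hd'⟩ := exists_dim G (G.hom z)
  obtain ⟨n, hn, hn'⟩ := exists_dim_closure_fiber G.hom (G.hom z) (G.hom.asFiber z)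
  rw [G.hom.fiberι_asFiber, hd' z rfl hz] at hn
  have hdn : d = n := by exact_mod_cast hn
  rw [hd, hdn, ← hn']
  have h2 : G.hom.fiberHomeo (G.hom z) (G.hom.asFiber z) = ⟨z, rfl⟩ :=
    Subtype.ext (G.hom.fiberι_asFiber z)
  have h3 : (G.hom.fiberHomeo (G.hom z)) '' (closure {G.hom.asFiber z}) =
      closure {(⟨z, rfl⟩ : ↥(G.hom ⁻¹' {G.hom z}))} := by
    rw [Homeomorph.image_closure, Set.image_singleton, h2]
  rw [← h3]
  exact (IsHomeomorph.topologicalKrullDim_eq _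
    ((G.hom.fiberHomeo (G.hom z)).image (closure {G.hom.asFiber z})).isHomeomorph).symm

theorem localDim_eq {S : Scheme.{u}} (G : Over S) [GrpObj G] [LocallyOfFiniteType G.hom] (x : G.left)
    (s : S) (hxs : G.hom x = s) :
    FlatMor.localDim ↥(G.hom ⁻¹' {s}) ⟨x, hxs⟩ = topologicalKrullDim (G.hom.fiber s) := by
  subst hxs
  rw [← fibreDimAt_eq G x]
  have h2 : G.hom.fiberHomeo (G.hom x) (G.hom.asFiber x) = ⟨x, rfl⟩ :=
    Subtype.ext (G.hom.fiberι_asFiber x)
  rw [← h2, ← localDim_homeo]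
  rfl

theorem of_hasQsec (H : HasQsec.{u}) (S : Scheme.{u}) (G X : Over S) [GrpObj G]
    [LocallyOfFinitePresentation G.hom]
    (hGo : ∃ W : G.left.Opens, (∀ p : ↥(𝟙_ (Over S)).left, η[G].left.base p ∈ W) ∧ UniversallyOpen (W.ι ≫ G.hom))
    (a : AlgGrp.Action G X) (hΦ : Surjective (lift a.act (snd G X)).left)
    (U : X.left.Opens) (s : S) (hft : LocallyOfFiniteType (X.hom.fiberToSpecResidueField s))
    (hdense : X.hom.base ⁻¹' {s} ⊆ closure ((U : Set X.left) ∩ X.hom.base ⁻¹' {s}))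
    (A : Set X.left) (hA : A.Finite) (hAs : A ⊆ X.hom.base ⁻¹' {s}) :
    ∃ (S' S'' : Scheme.{u}) (w : S' ⟶ S) (π : S'' ⟶ S') (h : Over.mk (π ≫ w) ⟶ G),
      Etale w ∧ IsFinite π ∧ Surjective π ∧ (∃ s₀ : S'', (π ≫ w).base ⁻¹' {s} = {s₀}) ∧
      ∀ z : ↥(X ⊗ Over.mk (π ≫ w)).left, (fst X (Over.mk (π ≫ w))).left.base z ∈ A →
        (lift (snd X (Over.mk (π ≫ w)) ≫ h) (fst X (Over.mk (π ≫ w))) ≫ a.act).left.base z ∈ U := by
  obtain ⟨W, hW1, hW2⟩ := hGo
  have heG : (η[G] : 𝟙_ (Over S) ⟶ G).left ≫ G.hom = 𝟙 S := Over.w (η[G] : 𝟙_ (Over S) ⟶ G)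
  have hGs : ∃ g ∈ W, G.hom g = s := by
    refine ⟨(η[G] : 𝟙_ (Over S) ⟶ G).left s, hW1 s, ?_⟩
    rw [← Scheme.Hom.comp_apply, heG]
    rfl
  obtain ⟨g, hgc, hgW, hg⟩ :=
    K204.ClosedTransl.exists_closed_point a s hΦ hft U hdense A hA hAs W hGs
  let x : G.left := G.hom.fiberι s g
  have hxs : G.hom x = s := by
    have : x ∈ Set.range (G.hom.fiberι s) := ⟨g, rfl⟩
    rw [Scheme.Hom.range_fiberι] at this
    exact this
  let xf : G.hom ⁻¹' {s} := ⟨x, hxs⟩
  have hxc : IsClosed ((Subtype.val : ↥(G.hom ⁻¹' {s}) → G.left) ⁻¹' {x}) := by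
    have h1 : (Subtype.val : ↥(G.hom ⁻¹' {s}) → G.left) ⁻¹' {x} = {xf} := by
      ext v
      change v.1 = x ↔ v = xf
      exact ⟨fun h => Subtype.ext h, fun h => congrArg Subtype.val h⟩
    have h2 : ({xf} : Set ↥(G.hom ⁻¹' {s})) = (G.hom.fiberHomeo s) '' {g} := by
      rw [Set.image_singleton]
      rfl
    rw [h1, h2]
    exact (G.hom.fiberHomeo s).isClosedMap _ hgc
  -- the generic point
  obtain ⟨z, hzx, hzs, hzg⟩ := Groth.Agent.CycB.RelDim.exists_fibGeneric_specializes G.hom x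
  have hzs' : G.hom z = s := hzs.trans hxs
  let zf : G.hom ⁻¹' {s} := ⟨z, hzs'⟩
  let Z : Set ↥(G.hom ⁻¹' {s}) := closure {zf}
  have hZ : Z ∈ irreducibleComponents ↥(G.hom ⁻¹' {s}) := closure_mem G.hom z hzg s hzs'
  have hzxf : zf ⤳ xf := Topology.IsInducing.subtypeVal.specializes_iff.mp hzx
  have hxZ : x ∈ Subtype.val '' Z := ⟨xf, specializes_iff_mem_closure.mp hzxf, rfl⟩
  have hzZ : z ∈ Subtype.val '' Z ∧ Subtype.val '' Z ⊆ closure {z} := by
    refine ⟨⟨zf, subset_closure rfl, rfl⟩, ?_⟩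
    rintro _ ⟨v, hv, rfl⟩
    have h1 : zf ⤳ v := specializes_iff_mem_closure.mpr hv
    exact specializes_iff_mem_closure.mp (h1.map continuous_subtype_val)
  have hopen : EGA43.IsUnivOpenAt G.hom z := by
    have hzW : z ∈ W := hzx.mem_open W.2 hgW
    exact Groth.Agent.Ega43.UnivOpenAt.isUnivOpenAt_of_comp W.ι G.hom ⟨z, hzW⟩
      ((Groth.Agent.Ega43.UnivOpenAt.universallyOpen_iff_forall_isUnivOpenAt _).mp hW2 _)
  have hdim : FlatMor.localDim ↥(G.hom ⁻¹' {s}) ⟨x, hxs⟩ = topologicalKrullDim ↥Z := by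
    rw [localDim_eq, dim_closure G z hzg s hzs']
  obtain ⟨S', S'', _, w, π, h, h1, h2, h3, h4, h5, s'', h6, h7, -⟩ :=
    H G.left S G.hom s x hxs hxc Z hZ hxZ z hzZ hopen hdim
  refine ⟨S', S'', w, π, Over.homMk h h5, h1, h2, h3, ⟨s'', h6⟩, fun v hv => ?_⟩
  let T : Over S := Over.mk (π ≫ w)
  let h' : T ⟶ G := Over.homMk h h5
  have hvs : (snd X T).left v = s'' := by
    have e1 : (snd X T).left v ∈ (π ≫ w) ⁻¹' {s} := by
      change (π ≫ w) ((snd X T).left v) = s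
      have e2 : (snd X T).left ≫ (π ≫ w) = (fst X T).left ≫ X.hom :=
        (Over.w (snd X T)).trans (Over.w (fst X T)).symm
      rw [← Scheme.Hom.comp_apply, e2, Scheme.Hom.comp_apply]
      exact hAs hv
    have e3 : (π ≫ w) ⁻¹' {s} = {s''} := h6
    rw [e3] at e1
    exact e1
  have e4 := hg ((lift (snd X T ≫ h') (fst X T)).left v) (by
    rw [← Scheme.Hom.comp_apply, ← Over.comp_left, lift_fst, Over.comp_left,
      Scheme.Hom.comp_apply, hvs]
    exact h7) (by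
    rw [← Scheme.Hom.comp_apply, ← Over.comp_left, lift_snd]
    exact hv)
  rw [← Scheme.Hom.comp_apply, ← Over.comp_left] at e4
  exact e4

end K204.QsecTransl
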