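import Groth.Agent.SGA3.K204.OrbDense
import Groth.Agent.SGA3.K204.GeomFib
import Groth.Agent.Sga3C.DimTop

/-!
# Closed points of a fibre of `G` translating finitely many points into a dense open

For a transitive action of `G` on `X`, a point `s` of the base such that `X_s` is locally of finite
type, an open `U` with `U_s` dense in `X_s` and a finite set `A` of points of `X_s`, every open of
`G` meeting `G_s` contains a closed point `g` of `G_s` with `g · A ⊆ U` (after any residue field
extension).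
-/

set_option autoImplicit false

universe u

open CategoryTheory CategoryTheory.Limits MonoidalCategory CartesianMonoidalCategory MonObj GrpObj AlgebraicGeometry

namespace K204.ClosedTransl

open Groth.Agent Groth.Agent.Sga3C Sga3C.Transl Sga3C.HomogIrr Sga3C.GenPts

variable {S : Scheme.{u}} {G X : Over S} [GrpObj G] (a : AlgGrp.Action G X)

section Geom

variable {K : Type u} [Field K] [IsAlgClosed K] (t : Spec (.of K) ⟶ S)

/-- A closed point of `T ⊗ X`, `T = Spec K` with `K` algebraically closed, comes from a `T`-point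
of `X`. -/
theorem exists_point_of_isClosed (X : Over S) [LocallyOfFiniteType (fst (Over.mk t) X).left]
    (z : ↥(Over.mk t ⊗ X).left) (hz : IsClosed {z}) :
    ∃ x : Over.mk t ⟶ X,
      (lift (𝟙 (Over.mk t)) x).left.base (IsLocalRing.closedPoint K) = z := by
  let f : (Over.mk t ⊗ X).left ⟶ Spec (.of K) := (fst (Over.mk t) X).left
  have : LocallyOfFiniteType f := inferInstanceAs (LocallyOfFiniteType (fst (Over.mk t) X).left)
  let s : Spec (.of K) ⟶ (Over.mk t ⊗ X).left := pointOfClosedPoint f z hz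
  have hs : s ≫ f = 𝟙 _ := pointOfClosedPoint_comp f z hz
  let s' : Over.mk t ⟶ Over.mk t ⊗ X := Over.homMk s (by
    change s ≫ f ≫ t = t
    rw [reassoc_of% hs])
  have hs' : s' ≫ fst _ _ = 𝟙 _ := by
    ext1; exact hs
  refine ⟨s' ≫ snd _ _, ?_⟩
  have : lift (𝟙 (Over.mk t)) (s' ≫ snd _ _) = s' := by
    ext1
    · simp [hs']
    · simp
  rw [this]
  exact pointOfClosedPoint_apply f z hz _

end Geom

variable (s : S)

/-- The geometric point above `s`. -/
noncomputable abbrev geo : Spec (.of (AlgebraicClosure (S.residueField s))) ⟶ S :=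
  Spec.map (CommRingCat.ofHom (algebraMap (S.residueField s) (AlgebraicClosure (S.residueField s)))) ≫
    S.fromSpecResidueField s

/-- The projection of the geometric fibre to the fibre. -/
theorem exists_proj (Y : Over S) : ∃ p : (Over.mk (geo s) ⊗ Y).left ⟶ Y.hom.fiber s,
    IsIntegralHom p ∧ Surjective p ∧ p ≫ Y.hom.fiberι s = (snd (Over.mk (geo s)) Y).left := by
  obtain ⟨p, h1, h2⟩ := K204.GeomFib.exists_isPullback Y.hom (geo s) _ rfl
  refine ⟨p, ?_, ?_, h2⟩
  · refine MorphismProperty.of_isPullback h1.flip ?_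
    rw [IsIntegralHom.SpecMap_iff]
    exact (algebraMap_isIntegral_iff (R := S.residueField s)
      (A := AlgebraicClosure (S.residueField s))).mpr inferInstance
  · exact MorphismProperty.of_isPullback h1.flip inferInstance

/-- Closed points of fibres are images of geometric points. -/
theorem exists_geoPoint (Y : Over S) [LocallyOfFiniteType (fst (Over.mk (geo s)) Y).left]
    (x : Y.hom.fiber s) (hx : IsClosed {x}) :
    ∃ y : Over.mk (geo s) ⟶ Y, ∀ v, y.left v = Y.hom.fiberι s x := by
  let T : Over S := Over.mk (geo s)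
  obtain ⟨pX, hpX1, hpX2, hpX3⟩ := exists_proj s Y
  have hJ : JacobsonSpace T.left :=
    inferInstanceAs (JacobsonSpace (Spec (.of (AlgebraicClosure (S.residueField s)))))
  have hJX : JacobsonSpace (T ⊗ Y).left := LocallyOfFiniteType.jacobsonSpace (fst T Y).left
  obtain ⟨z₀, hz₀⟩ := pX.surjective x
  obtain ⟨z, hz, hzc⟩ := nonempty_inter_closedPoints (Z := pX ⁻¹' {x}) ⟨z₀, hz₀⟩
    (hx.preimage pX.continuous).isLocallyClosed
  obtain ⟨y, hy⟩ := exists_point_of_isClosed (geo s) Y z hzc
  let pt : T.left := IsLocalRing.closedPoint (AlgebraicClosure (S.residueField s))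
  refine ⟨y, fun v => ?_⟩
  have hpt : v = pt :=
    Subsingleton.elim (α := Spec (.of (AlgebraicClosure (S.residueField s)))) _ _
  rw [hpt, ← snd_lift_apply y pt]
  have h1 : (lift (𝟙 T) y).left pt = z := hy
  rw [h1, ← hpX3, Scheme.Hom.comp_apply]
  exact congrArg _ hz

/-- The pullback square of `T ⊗ G ⟶ G ⊗ X`, `(τ, g) ↦ (g, y(τ))`. -/
theorem isPullback_pt {G X : Over S} {T : Over S} (y : T ⟶ X) :
    IsPullback (lift (snd T G) (fst T G ≫ y)) (fst T G) (snd G X) y where
  w := by simp
  isLimit' := ⟨PullbackCone.IsLimit.mk _ (fun c => lift c.snd (c.fst ≫ fst G X))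
    (fun c => by
      ext1
      · simp
      · have := c.condition
        simp [this])
    (fun c => by simp)
    (fun c m h1 h2 => by
      ext1
      · rw [h2, lift_fst]
      · rw [lift_snd, ← h1, Category.assoc, lift_fst])⟩

/-- The pullback square of `T ⊗ X ⟶ G ⊗ X`, `(τ, x) ↦ (g(τ), x)`. -/
theorem isPullback_pt' {G X : Over S} {T : Over S} (g : T ⟶ G) :
    IsPullback (g ▷ X) (fst T X) (fst G X) g :=
  SchemImage.isPullback_whiskerRight g X

/-- The set of points `g` of the fibre `G_s` such that `g · x` is not always in `U`. -/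
theorem exists_bad (hΦ : Surjective (lift a.act (snd G X)).left) [LocallyOfFiniteType G.hom]
    (hft : LocallyOfFiniteType (X.hom.fiberToSpecResidueField s))
    (U : X.left.Opens) (hU : X.hom ⁻¹' {s} ⊆ closure ((U : Set X.left) ∩ X.hom ⁻¹' {s}))
    (x : X.hom.fiber s) (hx : IsClosed {x}) :
    ∃ B : Set (G.hom.fiber s), IsClosed B ∧ (∀ γ ∈ genericPoints (G.hom.fiber s), γ ∉ B) ∧
      ∀ w : (G ⊗ X).left, (snd G X).left w = X.hom.fiberι s x →
        ∀ g : G.hom.fiber s, G.hom.fiberι s g = (fst G X).left w → g ∉ B → a.act.left w ∈ U := by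
  let T : Over S := Over.mk (geo s)
  obtain ⟨pG, hpG1, hpG2, hpG3⟩ := exists_proj s G
  have hXl : LocallyOfFiniteType (fst T X).left := by
    obtain ⟨p, h1, -⟩ := K204.GeomFib.exists_isPullback X.hom (geo s) _ rfl
    exact MorphismProperty.of_isPullback h1 hft
  have hGl : LocallyOfFiniteType (fst T G).left :=
    inferInstanceAs (LocallyOfFiniteType (pullback.fst (geo s) G.hom))
  have hJ : JacobsonSpace T.left :=
    inferInstanceAs (JacobsonSpace (Spec (.of (AlgebraicClosure (S.residueField s)))))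
  have hJX : JacobsonSpace (T ⊗ X).left := LocallyOfFiniteType.jacobsonSpace (fst T X).left
  have hgeo : ∀ z, geo s z = s := fun z => by
    rw [Scheme.Hom.comp_apply, Scheme.fromSpecResidueField_apply]
  -- a `T`-point above `x`
  obtain ⟨y, hy⟩ := exists_geoPoint s X x hx
  let pt : T.left := IsLocalRing.closedPoint (AlgebraicClosure (S.residueField s))
  have hyx : y.left pt = X.hom.fiberι s x := hy pt
  -- the bad set
  let D : Set (T ⊗ X).left := (snd T X).left ⁻¹' U
  have hDo : IsOpen D := U.isOpen.preimage (snd T X).left.continuous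
  have hD : Dense D := K204.GeomFib.dense_preimage X.hom (geo s) (hgeo _) hU
  let C : Set (T ⊗ G).left := ((orb a y).left ⁻¹' D)ᶜ
  have hC : IsClosed C := (hDo.preimage (orb a y).left.continuous).isClosed_compl
  have : IsLocallyNoetherian T.left :=
    inferInstanceAs (IsLocallyNoetherian (Spec (.of (AlgebraicClosure (S.residueField s)))))
  have hXn : IsLocallyNoetherian (T ⊗ X).left :=
    LocallyOfFiniteType.isLocallyNoetherian (fst T X).left
  refine ⟨pG '' C, pG.isClosedMap _ hC, ?_, ?_⟩
  · rintro _ hγ ⟨γ', hγ', rfl⟩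
    obtain ⟨γ'', h1, h2⟩ := exists_mem_genericPoints_specializes γ'
    have h3 : pG γ'' = pG γ' := eq_of_specializes_of_mem_genericPoints hγ _ (h2.map pG.continuous)
    have h4 : γ'' = γ' := Sga3C.DimTop.eq_of_specializes_of_isIntegralHom pG γ'' γ' h2 h3
    have h5 : (orb a y).left γ' ∈ D := K204.OrbDense.mem_of_dense _ (by
      rw [← h4]
      exact K204.OrbDense.orb_generic a (geo s) hΦ y h1) hDo hD
    exact hγ' h5
  · intro w hw g hg hgB
    by_contra hwU
    refine hgB ?_
    obtain ⟨γ', h1, h2⟩ := isPullback_surj ((isPullback_pt y).map (Over.forget S)) w pt (by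
      change (snd G X).left w = y.left pt
      rw [hw, hyx])
    have h1' : (lift (snd T G) (fst T G ≫ y)).left γ' = w := h1
    refine ⟨γ', ?_, ?_⟩
    · intro h3
      have h4 : (snd T X).left ((orb a y).left γ') ∈ U := h3
      rw [← comp_left_apply, orb_snd, comp_left_apply, h1'] at h4
      exact hwU h4
    · apply (G.hom.fiberι s).isEmbedding.injective
      rw [hg, ← Scheme.Hom.comp_apply, hpG3, ← h1', ← comp_left_apply, lift_fst]

/-- The main lemma. -/
theorem exists_closed_point (hΦ : Surjective (lift a.act (snd G X)).left)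
    [LocallyOfFiniteType G.hom] (hft : LocallyOfFiniteType (X.hom.fiberToSpecResidueField s))
    (U : X.left.Opens) (hU : X.hom ⁻¹' {s} ⊆ closure ((U : Set X.left) ∩ X.hom ⁻¹' {s}))
    (A : Set X.left) (hA : A.Finite) (hAs : A ⊆ X.hom ⁻¹' {s})
    (W : G.left.Opens) (hW : ∃ g ∈ W, G.hom g = s) :
    ∃ g : G.hom.fiber s, IsClosed {g} ∧ G.hom.fiberι s g ∈ W ∧
      ∀ w : (G ⊗ X).left, (fst G X).left w = G.hom.fiberι s g → (snd G X).left w ∈ A →
        a.act.left w ∈ U := by
  classical
  have hGl : LocallyOfFiniteType (G.hom.fiberToSpecResidueField s) :=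
    inferInstanceAs (LocallyOfFiniteType (pullback.snd G.hom (S.fromSpecResidueField s)))
  have hJG : JacobsonSpace (G.hom.fiber s) :=
    LocallyOfFiniteType.jacobsonSpace (G.hom.fiberToSpecResidueField s)
  have hJX : JacobsonSpace (X.hom.fiber s) :=
    LocallyOfFiniteType.jacobsonSpace (X.hom.fiberToSpecResidueField s)
  have hXl : LocallyOfFiniteType (fst (Over.mk (geo s)) X).left := by
    obtain ⟨p, h1, -⟩ := K204.GeomFib.exists_isPullback X.hom (geo s) _ rfl
    exact MorphismProperty.of_isPullback h1 hft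
  have hGl : LocallyOfFiniteType (fst (Over.mk (geo s)) G).left :=
    inferInstanceAs (LocallyOfFiniteType (pullback.fst (geo s) G.hom))
  -- closed specializations
  have hsp : ∀ x ∈ A, ∃ B : Set (G.hom.fiber s), IsClosed B ∧
      (∀ γ ∈ genericPoints (G.hom.fiber s), γ ∉ B) ∧
      ∃ x' : X.hom.fiber s, x ⤳ X.hom.fiberι s x' ∧
        ∀ w : (G ⊗ X).left, (snd G X).left w = X.hom.fiberι s x' →
        ∀ g : G.hom.fiber s, G.hom.fiberι s g = (fst G X).left w → g ∉ B → a.act.left w ∈ U := by
    intro x hx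
    obtain ⟨x₀, rfl⟩ : x ∈ Set.range (X.hom.fiberι s) := by
      rw [Scheme.Hom.range_fiberι]; exact hAs hx
    obtain ⟨x', hx', hx'c⟩ := nonempty_inter_closedPoints (Z := closure {x₀})
      ⟨x₀, subset_closure rfl⟩ isClosed_closure.isLocallyClosed
    obtain ⟨B, hB1, hB2, hB3⟩ := exists_bad a s hΦ hft U hU x' hx'c
    exact ⟨B, hB1, hB2, x',
      (specializes_iff_mem_closure.mpr hx').map (X.hom.fiberι s).continuous, hB3⟩
  choose! B hB1 hB2 hB3 using hsp
  -- the closed point
  let B' : Set (G.hom.fiber s) := ⋃ x ∈ A, B x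
  have hB' : IsClosed B' := hA.isClosed_biUnion fun x hx => hB1 _ hx
  obtain ⟨g₀, hg₀W, hg₀⟩ := hW
  obtain ⟨g₁, rfl⟩ : g₀ ∈ Set.range (G.hom.fiberι s) := by
    rw [Scheme.Hom.range_fiberι]; exact hg₀
  obtain ⟨γ, hγ, hγg⟩ := exists_mem_genericPoints_specializes g₁
  have hWo : IsOpen (G.hom.fiberι s ⁻¹' (W : Set G.left)) :=
    W.isOpen.preimage (G.hom.fiberι s).continuous
  obtain ⟨g, ⟨hgW, hgB⟩, hgc⟩ := nonempty_inter_closedPoints
    (Z := G.hom.fiberι s ⁻¹' (W : Set G.left) ∩ B'ᶜ) ⟨γ, hγg.mem_open hWo hg₀W, by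
      intro h
      obtain ⟨x, hx, h'⟩ := Set.mem_iUnion₂.mp h
      exact hB2 _ hx γ hγ h'⟩ (hWo.inter hB'.isOpen_compl).isLocallyClosed
  refine ⟨g, hgc, hgW, fun w hw hwA => ?_⟩
  -- a specialization of `w` above the closed specialization
  obtain ⟨x', hx'1, hx'2⟩ := hB3 _ hwA
  obtain ⟨ĝ, hĝ⟩ := exists_geoPoint s G g hgc
  obtain ⟨pX, hpX1, hpX2, hpX3⟩ := exists_proj s X
  let pt : (Over.mk (geo s)).left := IsLocalRing.closedPoint (AlgebraicClosure (S.residueField s))
  obtain ⟨v, hv1, hv2⟩ := isPullback_surj ((isPullback_pt' (X := X) ĝ).map (Over.forget S)) w pt (by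
    change (fst G X).left w = ĝ.left pt
    rw [hw, hĝ])
  have hv1' : (ĝ ▷ X).left v = w := hv1
  have hsnd : ∀ v, X.hom.fiberι s (pX v) = (snd G X).left ((ĝ ▷ X).left v) := fun v => by
    rw [← Scheme.Hom.comp_apply, hpX3, ← comp_left_apply, whiskerRight_snd]
  have h1 : pX v ⤳ x' := by
    rw [← (X.hom.fiberι s).isEmbedding.isInducing.specializes_iff, hsnd, hv1']
    exact hx'1
  obtain ⟨v', hv', hv'x⟩ := pX.isClosedMap.specializingMap h1
  have h5 : a.act.left ((ĝ ▷ X).left v') ∈ U := by
    refine hx'2 _ ?_ g ?_ ?_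
    · rw [← hsnd, hv'x]
    · rw [← comp_left_apply, whiskerRight_fst, comp_left_apply, hĝ]
    · intro h
      exact hgB (Set.mem_biUnion hwA h)
  have h6 : w ⤳ (ĝ ▷ X).left v' := by
    rw [← hv1']
    exact hv'.map (ĝ ▷ X).left.continuous
  exact (h6.map a.act.left.continuous).mem_open U.isOpen h5

end K204.ClosedTransl
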