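import Groth.Agent.SGA3.K204.FtDescAlg
import Mathlib.AlgebraicGeometry.PullbackCarrier
import Mathlib.AlgebraicGeometry.Morphisms.FiniteType

/-!
# Pointwise descent of finite type along a field extension, scheme form
-/

set_option autoImplicit false
universe u
open CategoryTheory CategoryTheory.Limits AlgebraicGeometry TensorProduct

namespace K204.FtDesc

/-- Affine case of the pointwise descent. -/
theorem exists_affine {k L R : Type u} [Field k] [Field L] [Algebra k L] [CommRing R] [Algebra k R]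
    (Ω : (Spec (CommRingCat.of (R ⊗[k] L))).Opens) (w : Spec (CommRingCat.of (R ⊗[k] L)))
    (hw : w ∈ Ω)
    (hΩ : LocallyOfFiniteType (Ω.ι ≫ Spec.map (CommRingCat.ofHom
      (Algebra.TensorProduct.includeRight : L →ₐ[k] R ⊗[k] L).toRingHom))) :
    ∃ s : R, algebraMap R (R ⊗[k] L) s ∉ w.asIdeal ∧ Algebra.FiniteType k (Localization.Away s) := by
  obtain ⟨_, ⟨f, rfl⟩, hwf, hfΩ⟩ := PrimeSpectrum.isTopologicalBasis_basic_opens.exists_subset_of_mem_open
    (show w ∈ (Ω : Set (Spec (CommRingCat.of (R ⊗[k] L)))) from hw) Ω.isOpen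
  refine K204.FtDescAlg.exists_finiteType f ?_ w hwf
  let i : Spec (CommRingCat.of (Localization.Away f)) ⟶ Spec (CommRingCat.of (R ⊗[k] L)) :=
    Spec.map (CommRingCat.ofHom (algebraMap _ _))
  have hi : IsOpenImmersion i := IsOpenImmersion.of_isLocalization f
  have hrange : Set.range i = (PrimeSpectrum.basicOpen f : Set (PrimeSpectrum (R ⊗[k] L))) :=
    PrimeSpectrum.localization_away_comap_range (Localization.Away f) f
  let m : Spec (CommRingCat.of (Localization.Away f)) ⟶ Ω := IsOpenImmersion.lift Ω.ι i (by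
    rw [Scheme.Opens.range_ι, hrange]
    exact hfΩ)
  have hm : m ≫ Ω.ι = i := IsOpenImmersion.lift_fac _ _ _
  have hmo : IsOpenImmersion m := by
    have : IsOpenImmersion (m ≫ Ω.ι) := by rw [hm]; exact hi
    exact IsOpenImmersion.of_comp m Ω.ι
  have h1 : LocallyOfFiniteType (m ≫ Ω.ι ≫ Spec.map (CommRingCat.ofHom
      (Algebra.TensorProduct.includeRight : L →ₐ[k] R ⊗[k] L).toRingHom)) := inferInstance
  rw [reassoc_of% hm, ← Spec.map_comp] at h1
  exact (HasRingHomProperty.Spec_iff (P := @LocallyOfFiniteType)).mp h1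

/-- **Pointwise descent of finite type.** -/
theorem exists_nhd {k L : Type u} [Field k] [Field L] [Algebra k L] {X P : Scheme.{u}}
    {f : X ⟶ Spec (CommRingCat.of k)} {p : P ⟶ X} {q : P ⟶ Spec (CommRingCat.of L)}
    (h : IsPullback p q f (Spec.map (CommRingCat.ofHom (algebraMap k L)))) (Ω : P.Opens) (w : P)
    (hw : w ∈ Ω) (hΩ : LocallyOfFiniteType (Ω.ι ≫ q)) :
    ∃ V : X.Opens, p w ∈ V ∧ LocallyOfFiniteType (V.ι ≫ f) := by
  obtain ⟨U, hU, hpU, -⟩ := exists_isAffineOpen_mem_and_subset (x := p w) (U := ⊤) trivial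
  let R : CommRingCat.{u} := Γ(X, U)
  let g : Spec R ⟶ X := hU.fromSpec
  have hg : IsOpenImmersion g := hU.isOpenImmersion_fromSpec
  have hgr : Set.range g = U := hU.range_fromSpec
  let φ : CommRingCat.of k ⟶ R := Spec.preimage (g ≫ f)
  have hφ : Spec.map φ = g ≫ f := Spec.map_preimage _
  let : Algebra k R := φ.hom.toAlgebra
  have hφ' : Spec.map (CommRingCat.ofHom (algebraMap k R)) = g ≫ f := hφ
  let a : Spec (CommRingCat.of (R ⊗[k] L)) ⟶ Spec R :=
    Spec.map (CommRingCat.ofHom Algebra.TensorProduct.includeLeftRingHom)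
  let b : Spec (CommRingCat.of (R ⊗[k] L)) ⟶ Spec (CommRingCat.of L) :=
    Spec.map (CommRingCat.ofHom (Algebra.TensorProduct.includeRight : L →ₐ[k] R ⊗[k] L).toRingHom)
  have hab : IsPullback a b (g ≫ f) (Spec.map (CommRingCat.ofHom (algebraMap k L))) := by
    rw [← hφ']
    exact isPullback_SpecMap_of_isPushout _ _ _ _ (CommRingCat.isPushout_tensorProduct k R L)
  let j : Spec (CommRingCat.of (R ⊗[k] L)) ⟶ P := h.lift (a ≫ g) b (by
    rw [Category.assoc]; exact hab.w)
  have hj1 : j ≫ p = a ≫ g := h.lift_fst _ _ _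
  have hj2 : j ≫ q = b := h.lift_snd _ _ _
  have hpb : IsPullback j a p g :=
    IsPullback.of_right (by rw [hj2]; exact hab.flip) hj1 h.flip
  have hjo : IsOpenImmersion j := MorphismProperty.of_isPullback (P := @IsOpenImmersion) hpb.flip hg
  obtain ⟨w', rfl⟩ : w ∈ Set.range j := by
    obtain ⟨y, hy⟩ : p w ∈ Set.range g := by rw [hgr]; exact hpU
    obtain ⟨z, hz, -⟩ := Scheme.exists_preimage_of_isPullback hpb w y hy.symm
    exact ⟨z, hz⟩
  have h1 : LocallyOfFiniteType ((j ⁻¹ᵁ Ω).ι ≫ b) := by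
    have h2 : (j ⁻¹ᵁ Ω).ι ≫ b = (j ∣_ Ω) ≫ Ω.ι ≫ q := by
      rw [← hj2, ← Category.assoc, ← morphismRestrict_ι, Category.assoc]
    rw [h2]
    infer_instance
  obtain ⟨s, hs, hs'⟩ := exists_affine (j ⁻¹ᵁ Ω) w' hw h1
  let i : Spec (CommRingCat.of (Localization.Away s)) ⟶ Spec R :=
    Spec.map (CommRingCat.ofHom (algebraMap _ _))
  have hi : IsOpenImmersion i := IsOpenImmersion.of_isLocalization s
  have hrange : Set.range i = (PrimeSpectrum.basicOpen s : Set (PrimeSpectrum R)) :=
    PrimeSpectrum.localization_away_comap_range (Localization.Away s) s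
  refine ⟨(i ≫ g).opensRange, ?_, ?_⟩
  · change p (j w') ∈ Set.range (i ≫ g)
    rw [← Scheme.Hom.comp_apply, hj1, Scheme.Hom.comp_apply, Scheme.Hom.comp_base, TopCat.coe_comp,
      Set.range_comp]
    refine ⟨a w', ?_, rfl⟩
    rw [hrange]
    exact hs
  · rw [← Scheme.Hom.isoOpensRange_inv_comp, Category.assoc, Category.assoc, ← hφ']
    have h3 : LocallyOfFiniteType (i ≫ Spec.map (CommRingCat.ofHom (algebraMap k R))) := by
      have h4 : CommRingCat.ofHom (algebraMap k R) ≫
          CommRingCat.ofHom (algebraMap R (Localization.Away s)) =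
          CommRingCat.ofHom (algebraMap k (Localization.Away s)) := by
        rw [← CommRingCat.ofHom_comp, ← IsScalarTower.algebraMap_eq]
      have h5 : i ≫ Spec.map (CommRingCat.ofHom (algebraMap k R)) =
          Spec.map (CommRingCat.ofHom (algebraMap k (Localization.Away s))) := by
        rw [← h4, Spec.map_comp]
      rw [h5, HasRingHomProperty.Spec_iff (P := @LocallyOfFiniteType)]
      exact RingHom.finiteType_algebraMap.mpr hs'
    infer_instance

end K204.FtDesc
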