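import Mathlib.RingTheory.Spectrum.Prime.Chevalley
import Mathlib.RingTheory.FiniteType
import Mathlib.RingTheory.RingHom.FiniteType
import Mathlib.RingTheory.Flat.Basic
import Mathlib.RingTheory.TensorProduct.Basic
import Mathlib.RingTheory.Localization.Away.Basic

/-!
# Pointwise descent of finite type along a field extension

If `R ⊗[k] L` is of finite type over `L` near a prime `q`, then `R` is of finite type over `k` near
`q ∩ R`.
-/

set_option autoImplicit false
universe u
open TensorProduct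

namespace K204.FtDescAlg

variable {k L R : Type u} [Field k] [Field L] [Algebra k L] [CommRing R] [Algebra k R]

/-- The inclusion of `R₀ ⊗ L` in `R ⊗ L`. -/
noncomputable def inc (L : Type u) [Field L] [Algebra k L] (R₀ : Subalgebra k R) :
    R₀ ⊗[k] L →ₐ[k] R ⊗[k] L :=
  Algebra.TensorProduct.map R₀.val (AlgHom.id k L)

lemma inc_tmul (R₀ : Subalgebra k R) (a : R₀) (l : L) : inc L R₀ (a ⊗ₜ l) = (a : R) ⊗ₜ l := rfl

lemma range_mono {R₀ R₁ : Subalgebra k R} (h : R₀ ≤ R₁) : (inc L R₀).range ≤ (inc L R₁).range := by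
  rintro _ ⟨x, rfl⟩
  refine ⟨Algebra.TensorProduct.map (Subalgebra.inclusion h) (AlgHom.id k L) x, ?_⟩
  induction x with
  | zero => simp
  | tmul a l => rfl
  | add x y hx hy =>
    rw [map_add, map_add, map_add, hx, hy]

lemma exists_finset (x : R ⊗[k] L) : ∃ c : Finset R, x ∈ (inc L (Algebra.adjoin k (c : Set R))).range := by
  classical
  induction x with
  | zero => exact ⟨∅, Subalgebra.zero_mem _⟩
  | tmul a l =>
    exact ⟨{a}, ⟨⟨a, Algebra.subset_adjoin (by simp)⟩ ⊗ₜ l, rfl⟩⟩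
  | add x y hx hy =>
    obtain ⟨c, hc⟩ := hx
    obtain ⟨d, hd⟩ := hy
    refine ⟨c ∪ d, Subalgebra.add_mem _ (range_mono (Algebra.adjoin_mono (by simp)) hc)
      (range_mono (Algebra.adjoin_mono (by simp)) hd)⟩

lemma exists_finset_of_finite (t : Set (R ⊗[k] L)) (ht : t.Finite) :
    ∃ c : Finset R, ∀ x ∈ t, x ∈ (inc L (Algebra.adjoin k (c : Set R))).range := by
  classical
  choose c hc using exists_finset (k := k) (L := L) (R := R)
  refine ⟨ht.toFinset.biUnion c, fun x hx => range_mono (Algebra.adjoin_mono ?_) (hc x)⟩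
  intro y hy
  exact Finset.mem_coe.mpr (Finset.mem_biUnion.mpr ⟨x, ht.mem_toFinset.mpr hx, hy⟩)

/-- The ideal of denominators of `r` in the subalgebra `R₀`. -/
def den (R₀ : Subalgebra k R) (r : R) : Ideal R₀ where
  carrier := {a | (a : R) * r ∈ R₀}
  add_mem' := by
    intro a b ha hb
    change ((a + b : R₀) : R) * r ∈ R₀
    rw [Subalgebra.coe_add, add_mul]
    exact R₀.add_mem ha hb
  zero_mem' := by
    change ((0 : R₀) : R) * r ∈ R₀
    rw [Subalgebra.coe_zero, zero_mul]
    exact R₀.zero_mem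
  smul_mem' := by
    intro c a ha
    change ((c * a : R₀) : R) * r ∈ R₀
    rw [Subalgebra.coe_mul, mul_assoc]
    exact R₀.mul_mem c.2 ha

/-- Flatness: denominators of `r ⊗ 1` in `R₀ ⊗ L` lie in the extension of the ideal of denominators
of `r`. -/
theorem mem_map_den (R₀ : Subalgebra k R) (r : R) (x : R₀ ⊗[k] L)
    (hx : inc L R₀ x * (r ⊗ₜ (1 : L)) ∈ (inc L R₀).range) :
    x ∈ (den R₀ r).map (algebraMap R₀ (R₀ ⊗[k] L)) := by
  -- the linear map `a ↦ a r` from `R₀` to `R / R₀`
  let m : R₀ →ₗ[k] R := (LinearMap.mulRight k r) ∘ₗ R₀.val.toLinearMap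
  let Q := R ⧸ R₀.toSubmodule
  let π : R →ₗ[k] Q := R₀.toSubmodule.mkQ
  let φ : R₀ →ₗ[k] Q := π ∘ₗ m
  have h1 : ∀ y : R₀ ⊗[k] L, (m.rTensor L) y = inc L R₀ y * (r ⊗ₜ (1 : L)) := by
    intro y
    induction y with
    | zero => simp
    | tmul a l => simp [m, inc_tmul]
    | add y z hy hz => rw [map_add, hy, hz, map_add, add_mul]
  have h2 : ∀ y : R₀ ⊗[k] L, (π.rTensor L) (inc L R₀ y) = 0 := by
    intro y
    induction y with
    | zero => simp
    | tmul a l =>
      rw [inc_tmul, LinearMap.rTensor_tmul]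
      have : π (a : R) = 0 := (Submodule.Quotient.mk_eq_zero _).mpr a.2
      rw [this, TensorProduct.zero_tmul]
    | add y z hy hz => rw [map_add, map_add, hy, hz, add_zero]
  have h3 : (φ.rTensor L) x = 0 := by
    rw [LinearMap.rTensor_comp_apply, h1]
    obtain ⟨y, hy⟩ := hx
    rw [← hy]
    exact h2 y
  have hex := Module.Flat.rTensor_exact L (LinearMap.exact_subtype_ker_map φ)
  obtain ⟨y, rfl⟩ := (hex x).mp h3
  clear hx h3
  induction y with
  | zero => simp
  | tmul a l =>
    rw [LinearMap.rTensor_tmul]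
    have ha : (a : R₀) ∈ den R₀ r := by
      have h5 : φ (a : R₀) = 0 := a.2
      exact (Submodule.Quotient.mk_eq_zero R₀.toSubmodule).mp h5
    have h4 : ((LinearMap.ker φ).subtype a) ⊗ₜ[k] l =
        (algebraMap R₀ (R₀ ⊗[k] L) (a : R₀)) * ((1 : R₀) ⊗ₜ[k] l) := by
      rw [Algebra.TensorProduct.algebraMap_apply]
      simp
    rw [h4]
    exact Ideal.mul_mem_right _ _ (Ideal.mem_map_of_mem _ ha)
  | add y z hy hz => rw [map_add]; exact Ideal.add_mem _ hy hz

/-- Powers of `f` clear denominators. -/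
theorem exists_pow_mul_mem (f : R ⊗[k] L) (R₀ : Subalgebra k R) (hf₀ : f ∈ (inc L R₀).range)
    (s : Set (Localization.Away f))
    (hs : ∀ y : Localization.Away f, y ∈ Subring.closure (Set.range (fun l : L =>
      algebraMap (R ⊗[k] L) (Localization.Away f) ((1 : R) ⊗ₜ l)) ∪ s))
    (hsR : ∀ y ∈ s, ∃ n : ℕ, ∃ x ∈ (inc L R₀).range,
      y * algebraMap _ (Localization.Away f) (f ^ n) = algebraMap _ _ x) (b : R ⊗[k] L) :
    ∃ n : ℕ, f ^ n * b ∈ (inc L R₀).range := by
  have key : ∀ y : Localization.Away f, ∃ n : ℕ, ∃ x ∈ (inc L R₀).range,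
      y * algebraMap _ (Localization.Away f) (f ^ n) = algebraMap _ _ x := by
    intro y
    induction hs y using Subring.closure_induction with
    | mem y hy =>
      rcases hy with ⟨l, rfl⟩ | hy
      · exact ⟨0, 1 ⊗ₜ l, ⟨1 ⊗ₜ l, rfl⟩, by simp⟩
      · exact hsR y hy
    | zero => exact ⟨0, 0, Subalgebra.zero_mem _, by simp⟩
    | one => exact ⟨0, 1, Subalgebra.one_mem _, by simp⟩
    | add y z _ _ hy hz =>
      obtain ⟨n, x, hx, hy⟩ := hy
      obtain ⟨m, x', hx', hz⟩ := hz
      refine ⟨n + m, x * f ^ m + x' * f ^ n, Subalgebra.add_mem _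
        (Subalgebra.mul_mem _ hx (Subalgebra.pow_mem _ hf₀ _))
        (Subalgebra.mul_mem _ hx' (Subalgebra.pow_mem _ hf₀ _)), ?_⟩
      rw [map_add, map_mul, map_mul, ← hy, ← hz, pow_add, map_mul]
      ring
    | neg y _ hy =>
      obtain ⟨n, x, hx, hy⟩ := hy
      exact ⟨n, -x, Subalgebra.neg_mem _ hx, by rw [neg_mul, hy, map_neg]⟩
    | mul y z _ _ hy hz =>
      obtain ⟨n, x, hx, hy⟩ := hy
      obtain ⟨m, x', hx', hz⟩ := hz
      refine ⟨n + m, x * x', Subalgebra.mul_mem _ hx hx', ?_⟩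
      rw [map_mul, ← hy, ← hz, pow_add, map_mul]
      ring
  obtain ⟨n, x, hx, h⟩ := key (algebraMap _ _ b)
  rw [← map_mul] at h
  obtain ⟨⟨_, m, rfl⟩, hc⟩ := (IsLocalization.eq_iff_exists (Submonoid.powers f) _).mp h
  refine ⟨m + n, ?_⟩
  have h2 : f ^ (m + n) * b = f ^ m * x := by
    rw [pow_add, mul_assoc, mul_comm (f ^ n) b]
    exact hc
  rw [h2]
  exact Subalgebra.mul_mem _ (Subalgebra.pow_mem _ hf₀ _) hx

/-- **Pointwise descent of finite type.** -/
theorem exists_finiteType (f : R ⊗[k] L)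
    (hf : RingHom.FiniteType ((algebraMap (R ⊗[k] L) (Localization.Away f)).comp
      (Algebra.TensorProduct.includeRight : L →ₐ[k] R ⊗[k] L).toRingHom))
    (q : PrimeSpectrum (R ⊗[k] L)) (hq : f ∉ q.asIdeal) :
    ∃ s : R, algebraMap R (R ⊗[k] L) s ∉ q.asIdeal ∧ Algebra.FiniteType k (Localization.Away s) := by
  classical
  -- generators of `(R ⊗ L)_f`
  let φ := (algebraMap (R ⊗[k] L) (Localization.Away f)).comp
      (Algebra.TensorProduct.includeRight : L →ₐ[k] R ⊗[k] L).toRingHom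
  obtain ⟨t, ht⟩ : ∃ t : Finset (Localization.Away f), ∀ y : Localization.Away f,
      y ∈ Subring.closure (Set.range φ ∪ (t : Set (Localization.Away f))) := by
    let := φ.toAlgebra
    have hf' : Algebra.FiniteType L (Localization.Away f) := hf
    obtain ⟨t, ht⟩ := hf'.1
    refine ⟨t, fun y => ?_⟩
    have h1 : y ∈ Algebra.adjoin L (t : Set (Localization.Away f)) := by rw [ht]; trivial
    rw [← Subalgebra.mem_toSubring, ] at h1
    rw [Algebra.adjoin_eq_ring_closure] at h1
    exact h1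
  have hnum : ∀ y : Localization.Away f, ∃ n : ℕ, ∃ x : R ⊗[k] L,
      y * algebraMap _ (Localization.Away f) (f ^ n) = algebraMap _ _ x := by
    intro y
    obtain ⟨⟨x, _, n, rfl⟩, h⟩ := IsLocalization.surj (Submonoid.powers f) y
    exact ⟨n, x, h⟩
  choose n x hx using hnum
  obtain ⟨c, hc⟩ := exists_finset_of_finite (k := k) (L := L) (R := R)
    (insert f (x '' (t : Set (Localization.Away f)))) ((t.finite_toSet.image x).insert f)
  let R₀ : Subalgebra k R := Algebra.adjoin k (c : Set R)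
  have hf₀ : f ∈ (inc L R₀).range := hc f (Set.mem_insert _ _)
  have hclear := exists_pow_mul_mem f R₀ hf₀ (t : Set (Localization.Away f)) ht
    (fun y hy => ⟨n y, x y, hc _ (Set.mem_insert_of_mem _ ⟨y, hy, rfl⟩), hx y⟩)
  obtain ⟨f₀, hff₀⟩ := hf₀
  have hff₀' : inc L R₀ f₀ = f := hff₀
  -- the prime of `R₀ ⊗ L`
  let q₀ : PrimeSpectrum (R₀ ⊗[k] L) := PrimeSpectrum.comap (inc L R₀).toRingHom q
  have hq₀ : f₀ ∉ q₀.asIdeal := by
    change inc L R₀ f₀ ∉ q.asIdeal
    rw [hff₀']; exact hq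
  -- the image of `D(f₀)` is open
  have hopen : IsOpen (PrimeSpectrum.comap (algebraMap R₀ (R₀ ⊗[k] L)) ''
      (PrimeSpectrum.basicOpen f₀ : Set (PrimeSpectrum (R₀ ⊗[k] L)))) :=
    PrimeSpectrum.isOpenMap_comap_algebraMap_tensorProduct_of_field _
      (PrimeSpectrum.basicOpen f₀).isOpen
  obtain ⟨_, ⟨s, rfl⟩, hs1, hs2⟩ := PrimeSpectrum.isTopologicalBasis_basic_opens.exists_subset_of_mem_open
    (show PrimeSpectrum.comap (algebraMap R₀ (R₀ ⊗[k] L)) q₀ ∈
      PrimeSpectrum.comap (algebraMap R₀ (R₀ ⊗[k] L)) ''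
      (PrimeSpectrum.basicOpen f₀ : Set (PrimeSpectrum (R₀ ⊗[k] L))) from ⟨q₀, hq₀, rfl⟩) hopen
  have hden : ∀ r : R, ∃ m : ℕ, (s : R) ^ m * r ∈ R₀ := by
    intro r
    obtain ⟨N, hN⟩ := hclear (r ⊗ₜ 1)
    have h1 : f₀ ^ N ∈ (den R₀ r).map (algebraMap R₀ (R₀ ⊗[k] L)) := by
      refine mem_map_den R₀ r _ ?_
      rw [map_pow, hff₀']
      exact hN
    have h2 : s ∈ (den R₀ r).radical := by
      rw [Ideal.radical_eq_sInf]
      refine Submodule.mem_sInf.mpr ?_
      rintro P ⟨hP1, hP2⟩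
      by_contra hsP
      obtain ⟨q', hq', hq'P⟩ := hs2 (show (⟨P, hP2⟩ : PrimeSpectrum R₀) ∈
        (PrimeSpectrum.basicOpen s : Set (PrimeSpectrum R₀)) from hsP)
      have h3 : (den R₀ r).map (algebraMap R₀ (R₀ ⊗[k] L)) ≤ q'.asIdeal := by
        rw [Ideal.map_le_iff_le_comap]
        have h4 : q'.asIdeal.comap (algebraMap R₀ (R₀ ⊗[k] L)) = P :=
          congrArg PrimeSpectrum.asIdeal hq'P
        rw [h4]
        exact hP1
      exact hq' (q'.isPrime.mem_of_pow_mem N (h3 h1))
    obtain ⟨m, hm⟩ := h2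
    refine ⟨m, ?_⟩
    have h5 : ((s ^ m : R₀) : R) * r ∈ R₀ := hm
    rwa [Subalgebra.coe_pow] at h5
  refine ⟨s, ?_, ?_⟩
  · intro h
    apply hs1
    change inc L R₀ (algebraMap R₀ (R₀ ⊗[k] L) s) ∈ q.asIdeal
    exact h
  · -- `R[1/s]` is generated by the generators of `R₀` and `1/s`
    let g : Set (Localization.Away (s : R)) := (algebraMap R (Localization.Away (s : R))) '' (c : Set R)
    let v : Localization.Away (s : R) := IsLocalization.Away.invSelf (s : R)
    have hv : algebraMap R (Localization.Away (s : R)) s * v = 1 :=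
      IsLocalization.Away.mul_invSelf (s : R)
    have hR₀ : ∀ a : R, a ∈ R₀ → algebraMap R (Localization.Away (s : R)) a ∈
        Algebra.adjoin k (insert v g) := by
      intro a ha
      refine Algebra.adjoin_mono (Set.subset_insert v g) ?_
      have h7 : (IsScalarTower.toAlgHom k R (Localization.Away (s : R))) a ∈
          (Algebra.adjoin k (c : Set R)).map (IsScalarTower.toAlgHom k R (Localization.Away (s : R))) :=
        ⟨a, ha, rfl⟩
      rw [AlgHom.map_adjoin] at h7
      exact h7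
    have htop : Algebra.adjoin k (insert v g) = ⊤ := by
      rw [eq_top_iff]
      rintro y -
      obtain ⟨⟨r, _, m, rfl⟩, h⟩ := IsLocalization.surj (Submonoid.powers (s : R)) y
      obtain ⟨m', hm'⟩ := hden r
      have h8 : y = algebraMap R (Localization.Away (s : R)) ((s : R) ^ m' * r) * v ^ (m + m') := by
        have h9 : y * algebraMap R (Localization.Away (s : R)) ((s : R) ^ m) =
          algebraMap R (Localization.Away (s : R)) r := h
        rw [map_mul, ← h9, map_pow, map_pow, pow_add]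
        have h10 : (algebraMap R (Localization.Away (s : R)) s) ^ m' * v ^ m' = 1 := by
          rw [← mul_pow, hv, one_pow]
        have h11 : (algebraMap R (Localization.Away (s : R)) s) ^ m * v ^ m = 1 := by
          rw [← mul_pow, hv, one_pow]
        calc y = y * ((algebraMap R (Localization.Away (s : R)) s) ^ m * v ^ m) *
              ((algebraMap R (Localization.Away (s : R)) s) ^ m' * v ^ m') := by
                rw [h10, h11, mul_one, mul_one]
          _ = _ := by ring
      rw [h8]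
      exact Subalgebra.mul_mem _ (hR₀ _ hm')
        (Subalgebra.pow_mem _ (Algebra.subset_adjoin (Set.mem_insert _ _)) _)
    have hfin : (insert v g).Finite := (c.finite_toSet.image _).insert v
    exact ⟨⟨hfin.toFinset, by rw [hfin.coe_toFinset]; exact htop⟩⟩

end K204.FtDescAlg
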