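import Groth.Agent.Sga3.H820.NeutralOpen
import Groth.Agent.S1326
import Groth.Agent.Flat2D.ConstrGen

/-!
# The projection `G ⟶ S` restricted to the union of the neutral components is open if the fibre
dimension is locally constant
-/

set_option autoImplicit false

universe u

open CategoryTheory CategoryTheory.Limits MonoidalCategory CartesianMonoidalCategory MonObj GrpObj AlgebraicGeometry

namespace K204.NeutralNhd

open Groth.Agent.Sga3.H820.NeutralOpen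

/-- Local charts around the image of a section. -/
theorem exists_chart {X S : Scheme.{u}} (f : X ⟶ S) (e : S ⟶ X) (he : e ≫ f = 𝟙 S)
    [LocallyOfFinitePresentation f] (s₀ : S) :
    ∃ (V : S.Opens) (Z : Scheme.{u}) (f₁ : Z ⟶ V) (σ : V.toScheme ⟶ Z) (i : Z ⟶ X),
      s₀ ∈ V ∧ IsAffineOpen V ∧ σ ≫ f₁ = 𝟙 _ ∧ i ≫ f = f₁ ≫ V.ι ∧ σ ≫ i = V.ι ≫ e ∧
      IsOpenImmersion i ∧ LocallyOfFinitePresentation f₁ ∧ QuasiCompact f₁ ∧ QuasiSeparated f₁ := by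
  obtain ⟨_, ⟨V₀', hV₀, rfl⟩, hsV₀, -⟩ := S.isBasis_affineOpens.exists_subset_of_mem_open
    (Set.mem_univ s₀) isOpen_univ
  let V₀ : S.Opens := V₀'
  have hfe : ∀ s : S, f (e s) = s := fun s => by
    rw [← Scheme.Hom.comp_apply, he]; rfl
  obtain ⟨_, ⟨W₀', hW₀, rfl⟩, heW₀, hW₀V₀⟩ := X.isBasis_affineOpens.exists_subset_of_mem_open
    (show e s₀ ∈ (f ⁻¹ᵁ V₀ : Set X) from by
      change f (e s₀) ∈ V₀
      rw [hfe]; exact hsV₀) (f ⁻¹ᵁ V₀).isOpen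
  let W₀ : X.Opens := W₀'
  have hle : W₀ ≤ f ⁻¹ᵁ V₀ := hW₀V₀
  obtain ⟨_, ⟨V₁', hV₁, rfl⟩, hsV₁, hV₁sub⟩ := S.isBasis_affineOpens.exists_subset_of_mem_open
    (show s₀ ∈ ((V₀ ⊓ e ⁻¹ᵁ W₀ : S.Opens) : Set S) from ⟨hsV₀, heW₀⟩) (V₀ ⊓ e ⁻¹ᵁ W₀).isOpen
  let V₁ : S.Opens := V₁'
  have hV₁V₀ : V₁ ≤ V₀ := fun x hx => (hV₁sub hx).1
  have hV₁e : ∀ x ∈ V₁, e x ∈ W₀ := fun x hx => (hV₁sub hx).2
  have : IsAffine W₀ := hW₀
  have : IsAffine V₀ := hV₀
  have : IsAffine V₁ := hV₁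
  let h : W₀.toScheme ⟶ V₀.toScheme := f.resLE V₀ W₀ hle
  have hh : h ≫ V₀.ι = W₀.ι ≫ f := by simp [h]
  have hh' : LocallyOfFinitePresentation h := inferInstance
  let j : V₁.toScheme ⟶ V₀.toScheme := S.homOfLE hV₁V₀
  have hj : j ≫ V₀.ι = V₁.ι := S.homOfLE_ι hV₁V₀
  let l : V₁.toScheme ⟶ W₀.toScheme := IsOpenImmersion.lift W₀.ι (V₁.ι ≫ e) (by
    rintro _ ⟨x, rfl⟩
    rw [Scheme.Opens.range_ι, Scheme.Hom.comp_apply]
    exact hV₁e _ x.2)
  have hl : l ≫ W₀.ι = V₁.ι ≫ e := IsOpenImmersion.lift_fac _ _ _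
  have hlh : l ≫ h = 𝟙 _ ≫ j := by
    rw [← cancel_mono V₀.ι, Category.assoc, hh, reassoc_of% hl, he, Category.comp_id,
      Category.id_comp, hj]
  refine ⟨V₁, pullback h j, pullback.snd h j, pullback.lift l (𝟙 _) hlh,
    pullback.fst h j ≫ W₀.ι, hsV₁, hV₁, pullback.lift_snd _ _ _, ?_, ?_, inferInstance,
    inferInstance, inferInstance, inferInstance⟩
  · rw [Category.assoc, ← hh, pullback.condition_assoc, hj]
  · rw [pullback.lift_fst_assoc, hl]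

variable {S : Scheme.{u}} (G : Over S) [GrpObj G] [LocallyOfFinitePresentation G.hom]

/-- If the fibre dimension of `G` is constant on the generizations of `s₀`, every neighbourhood of
a point `g` of the neutral component of the fibre at `s₀` meets the neutral components of the fibres
near `s₀`. -/
theorem image_inter_mem_nhds {s₀ : S}
    (hdim : ∀ y : S, y ⤳ s₀ →
      topologicalKrullDim (G.hom ⁻¹' {y}) = topologicalKrullDim (G.hom ⁻¹' {s₀}))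
    {g : G.left} (hg : g ∈ neutral G s₀) {O : Set G.left} (hO : O ∈ nhds g) :
    G.hom '' (O ∩ SGA3x.neutralSet G) ∈ nhds s₀ := by
  have heG : (η[G] : 𝟙_ (Over S) ⟶ G).left ≫ G.hom = 𝟙 S := Over.w (η[G] : 𝟙_ (Over S) ⟶ G)
  obtain ⟨V, Z, f₁, σ, i, hsV, hV, hσ, hi, hσi, hi1, hf1, hf2, hf3⟩ :=
    exists_chart G.hom (η[G] : 𝟙_ (Over S) ⟶ G).left heG s₀
  obtain ⟨O', hO'O, hO', hgO'⟩ := mem_nhds_iff.mp hO
  have hE' := Groth.Agent.S1326.result f₁ σ hσ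
  have hhi : ∀ z : Z, G.hom (i z) = (f₁ z).1 := fun z => by
    rw [← Scheme.Hom.comp_apply, hi, Scheme.Hom.comp_apply]; rfl
  have hσe : ∀ v : V, i (σ v) = e G v.1 := fun v => by
    rw [← Scheme.Hom.comp_apply, hσi, Scheme.Hom.comp_apply]; rfl
  -- (B)
  have hB : ∀ z : Z, i z ∈ SGA3x.neutralSet G → z ∈ MoreMor.sectionComponents f₁ σ := by
    intro z hz
    have h1 : i z ∈ neutral G (f₁ z).1 := by
      rw [mem_neutralSet_iff, hhi] at hz
      exact hz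
    change z ∈ connectedComponentIn (f₁ ⁻¹' {f₁ z}) (σ (f₁ z))
    have h2 : IsPreirreducible (i ⁻¹' neutral G (f₁ z).1) := by
      refine (isPreirreducible_neutral G (f₁ z).1).preimage i.isOpenEmbedding
    have h3 : i ⁻¹' neutral G (f₁ z).1 ⊆ f₁ ⁻¹' {f₁ z} := by
      intro w hw
      have h4 := hom_of_mem G hw
      rw [hhi] at h4
      exact Subtype.ext h4
    refine h2.isPreconnected.subset_connectedComponentIn ?_ h3 h1
    rw [Set.mem_preimage, hσe]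
    exact e_mem G _
  -- (A)
  have hA : ∀ z : Z, z ∈ MoreMor.sectionComponents f₁ σ → i z ∈ SGA3x.neutralSet G := by
    intro z hz
    change z ∈ connectedComponentIn (f₁ ⁻¹' {f₁ z}) (σ (f₁ z)) at hz
    have h1 : f₁ (σ (f₁ z)) = f₁ z := by
      rw [← Scheme.Hom.comp_apply, hσ]; rfl
    rw [mem_neutralSet_iff, hhi]
    have h2 : _root_.IsPreconnected (i '' connectedComponentIn (f₁ ⁻¹' {f₁ z}) (σ (f₁ z))) :=
      isPreconnected_connectedComponentIn.image _ i.continuous.continuousOn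
    refine h2.subset_connectedComponentIn ⟨σ (f₁ z), mem_connectedComponentIn h1, hσe _⟩ ?_
      ⟨z, hz, rfl⟩
    rintro _ ⟨w, hw, rfl⟩
    have h3 : f₁ w = f₁ z := connectedComponentIn_subset (f₁ ⁻¹' {f₁ z}) _ hw
    change G.hom (i w) = _
    rw [hhi, h3]
  -- the generic point
  obtain ⟨ζ, hζ, hζ'⟩ := exists_generic G s₀
  obtain ⟨z₀, rfl⟩ : ζ ∈ Set.range i := by
    have h1 : ζ ⤳ e G s₀ := hζ' _ (e_mem G s₀)
    refine h1.mem_open i.isOpenEmbedding.isOpen_range ⟨σ ⟨s₀, hsV⟩, ?_⟩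
    rw [hσe]
  have hz₀O : i z₀ ∈ O' := (hζ' g hg).mem_open hO' hgO'
  obtain ⟨_, ⟨Q', hQ, rfl⟩, hzQ, hQO⟩ := Z.isBasis_affineOpens.exists_subset_of_mem_open
    (show z₀ ∈ i ⁻¹' O' from hz₀O) (hO'.preimage i.continuous)
  let Q : Z.Opens := Q'
  have : IsAffine Q := hQ
  have : IsAffine V := hV
  let q : Q.toScheme ⟶ V.toScheme := Q.ι ≫ f₁
  let E : Set V := q '' (Q.ι ⁻¹' (MoreMor.sectionComponents f₁ σ))
  have hE : Topology.IsLocallyConstructible E :=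
    q.isLocallyConstructible_image (hE'.preimage_of_isOpenEmbedding Q.ι.isOpenEmbedding)
  have hint : (⟨s₀, hsV⟩ : V) ∈ interior E := by
    refine Groth.Agent.Flat2D.ConstrGen.mem_interior_of_forall_specializes hE fun y hy => ?_
    have hys : y.1 ⤳ s₀ := hy.map V.ι.continuous
    obtain ⟨ξ, h3, h4⟩ := exists_specializes G hys (hdim _ hys)
    obtain ⟨w, hwQ, rfl⟩ : ξ ∈ i '' Q := by
      refine (h4 _ hζ).mem_open (i.isOpenEmbedding.isOpenMap _ Q.isOpen) ⟨z₀, hzQ, rfl⟩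
    refine ⟨⟨w, hwQ⟩, ?_, ?_⟩
    · refine hB w ?_
      rw [mem_neutralSet_iff, hom_of_mem G h3]
      exact h3
    · have h5 := hom_of_mem G h3
      rw [hhi] at h5
      exact Subtype.ext h5
  have h6 : V.ι '' (interior E) ∈ nhds s₀ :=
    (V.ι.isOpenEmbedding.isOpenMap _ isOpen_interior).mem_nhds ⟨_, hint, rfl⟩
  refine Filter.mem_of_superset h6 ?_
  rintro _ ⟨v, hv, rfl⟩
  obtain ⟨w, hw, rfl⟩ := interior_subset hv
  refine ⟨i (Q.ι w), ⟨hO'O (hQO w.2), hA _ hw⟩, ?_⟩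
  rw [hhi]
  rfl

end K204.NeutralNhd
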