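import Groth.Agent.Sga3C.Transl
import Groth.Agent.Sga3C.GrpBasic
import Groth.Agent.Sga3C.SchemImage

/-!
# Spreading a local property of a homomorphism of group schemes by translations

If a homomorphism of group schemes over an algebraically closed field has a property local on the
source on a nonempty open of the source, it has the property everywhere.
-/

set_option autoImplicit false
universe u
open CategoryTheory CategoryTheory.Limits MonoidalCategory CartesianMonoidalCategory MonObj GrpObj AlgebraicGeometry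

namespace K204.Spread

open Groth.Agent.Sga3C.Transl Groth.Agent.Sga3C.GrpBasic Groth.Agent.Sga3C.SchemImage

section Local

variable {P : MorphismProperty Scheme.{u}} [IsZariskiLocalAtSource P] {X Y : Scheme.{u}} (f : X ⟶ Y)

/-- A property local on the source which holds near every point holds. -/
theorem of_locally (h : ∀ x : X, ∃ U : X.Opens, x ∈ U ∧ P (U.ι ≫ f)) : P f := by
  choose U hxU hU using h
  refine (IsZariskiLocalAtSource.iff_of_iSup_eq_top (P := P) U ?_).mpr hU
  exact top_le_iff.mp fun x _ => TopologicalSpace.Opens.mem_iSup.mpr ⟨x, hxU x⟩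

/-- A property local on the source which holds near every closed point of a Jacobson scheme holds. -/
theorem of_closedPoints [JacobsonSpace X]
    (h : ∀ x : X, IsClosed {x} → ∃ U : X.Opens, x ∈ U ∧ P (U.ι ≫ f)) : P f := by
  apply of_locally
  intro x
  by_contra hx
  let V : X.Opens := ⨆ U : {U : X.Opens // P (U.ι ≫ f)}, U.1
  have hmem : ∀ y : X, y ∈ V ↔ ∃ U : X.Opens, y ∈ U ∧ P (U.ι ≫ f) := by
    intro y
    rw [TopologicalSpace.Opens.mem_iSup]
    constructor
    · rintro ⟨⟨U, hU⟩, hy⟩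
      exact ⟨U, hy, hU⟩
    · rintro ⟨U, hy, hU⟩
      exact ⟨⟨U, hU⟩, hy⟩
  have hxV : x ∈ ((V : Set X)ᶜ) := fun h' => hx ((hmem x).mp h')
  obtain ⟨y, hy, hyc⟩ := nonempty_inter_closedPoints (Z := ((V : Set X)ᶜ)) ⟨x, hxV⟩
    V.isOpen.isClosed_compl.isLocallyClosed
  exact hy ((hmem y).mpr (h y hyc))

/-- Transport of the local validity of a property along automorphisms. -/
theorem of_iso (α : X ≅ X) (β : Y ≅ Y) (hαβ : α.hom ≫ f = f ≫ β.hom) (x : X)
    (h : ∃ U : X.Opens, x ∈ U ∧ P (U.ι ≫ f)) : ∃ U : X.Opens, α.hom x ∈ U ∧ P (U.ι ≫ f) := by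
  obtain ⟨U, hx, hU⟩ := h
  refine ⟨α.inv ⁻¹ᵁ U, ?_, ?_⟩
  · change α.inv (α.hom x) ∈ U
    rw [← Scheme.Hom.comp_apply, Iso.hom_inv_id]
    exact hx
  · have h1 : (α.inv ⁻¹ᵁ U).ι ≫ f = (α.inv ∣_ U) ≫ (U.ι ≫ f) ≫ β.hom := by
      rw [Category.assoc, ← hαβ, morphismRestrict_ι_assoc, Iso.inv_hom_id_assoc]
    rw [h1, P.cancel_left_of_respectsIso, P.cancel_right_of_respectsIso]
    exact hU

end Local

variable {S : Scheme.{u}} {K : Type u} [Field K] [IsAlgClosed K] (t : Spec (.of K) ⟶ S)

/-- Translations are compatible with homomorphisms. -/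
theorem shear_comp {G H : Over S} [GrpObj G] [GrpObj H] (u : G ⟶ H) [IsMonHom u] {T : Over S}
    (g : T ⟶ G) : (mulLeftShear g).hom ≫ (T ◁ u) = (T ◁ u) ≫ (mulLeftShear (g ≫ u)).hom := by
  ext1
  · simp
  · rw [Category.assoc, Category.assoc, whiskerLeft_snd, mulLeftShear_hom_snd, ← Category.assoc,
      mulLeftShear_hom_snd, MonObj.mul_comp, MonObj.comp_mul, whiskerLeft_snd,
      whiskerLeft_fst_assoc, Category.assoc]

/-- `transl (regular G)` is the left shear. -/
theorem transl_regular {G : Over S} [GrpObj G] {T : Over S} (g : T ⟶ G) :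
    (transl (regular G) g).hom = (mulLeftShear g).hom := by
  ext1
  · rw [mulLeftShear_hom_fst]
    exact translHom_fst _ _
  · rw [mulLeftShear_hom_snd]
    exact translHom_snd _ _

/-- Spreading a property by translations. -/
theorem spread {G H : Over S} [GrpObj G] [GrpObj H] [LocallyOfFiniteType G.hom] (u : G ⟶ H)
    [IsMonHom u] {P : MorphismProperty Scheme.{u}} [IsZariskiLocalAtSource P]
    (W : (Over.mk t ⊗ G).left.Opens) (hW : (W : Set (Over.mk t ⊗ G).left).Nonempty)
    (h : P (W.ι ≫ (Over.mk t ◁ u).left)) : P (Over.mk t ◁ u).left := by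
  have hlft : LocallyOfFiniteType (fst (Over.mk t) G).left :=
    inferInstanceAs (LocallyOfFiniteType (pullback.fst t G.hom))
  have hJ : JacobsonSpace (Over.mk t ⊗ G).left :=
    LocallyOfFiniteType.jacobsonSpace (Y := Spec (.of K)) (fst (Over.mk t) G).left
  obtain ⟨z₁, hz₁, hz₁c⟩ := nonempty_inter_closedPoints hW W.isOpen.isLocallyClosed
  refine of_closedPoints _ fun z₂ hz₂ => ?_
  obtain ⟨g, hg⟩ := exists_transl_eq (regular G) t (surjective_regular G) z₁ z₂ hz₁c hz₂
  rw [transl_regular] at hg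
  have h1 := of_iso (P := P) (Over.mk t ◁ u).left ((Over.forget S).mapIso (mulLeftShear g))
    ((Over.forget S).mapIso (mulLeftShear (g ≫ u))) (by
      change (mulLeftShear g).hom.left ≫ (Over.mk t ◁ u).left =
        (Over.mk t ◁ u).left ≫ (mulLeftShear (g ≫ u)).hom.left
      rw [← Over.comp_left, ← Over.comp_left, shear_comp]) z₁ ⟨W, hz₁, h⟩
  obtain ⟨U, hU, hU'⟩ := h1
  refine ⟨U, ?_, hU'⟩
  rw [← hg]
  exact hU

end K204.Spread
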